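import Cfsg.Agent.BlockChar.KGVReal.Galois

/-!
# The square root of `|U| / |C_U(h)|`
-/

namespace Cfsg.Agent.KGVReal

open Cfsg.Agent.Char Module
open scoped ComplexConjugate

universe u v

/-- A class function of absolute value squared `N / c`, with values in the cyclotomic field. -/
structure Delta {H : Type u} [Group H] [Fintype H] (L : ℕ) (ζ : ℂ) (c : H → ℕ) (N : ℕ)
    (δ : H → ℂ) : Prop where
  coef : IntCoef δ
  field : ∀ h, δ h ∈ cycField L
  integral : ∀ h, IsIntegral ℤ (δ h)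
  norm : ∀ h, δ h * conj (δ h) * c h = N
  one : δ 1 = 1
  div : ∀ h, c h ≠ N → ∃ b, IsIntegral ℤ b ∧ δ h = (1 - ζ) * b

theorem Delta.mul {H : Type u} [Group H] [Fintype H] {L : ℕ} {ζ : ℂ} {c₁ c₂ : H → ℕ} {N₁ N₂ : ℕ}
    {δ₁ δ₂ : H → ℂ} (h₁ : Delta L ζ c₁ N₁ δ₁) (h₂ : Delta L ζ c₂ N₂ δ₂) :
    Delta L ζ (fun h => c₁ h * c₂ h) (N₁ * N₂) (δ₁ * δ₂) where
  coef := h₁.coef.mul h₂.coef
  field h := mul_mem (h₁.field h) (h₂.field h)
  integral h := (h₁.integral h).mul (h₂.integral h)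
  norm h := by
    push_cast
    rw [← h₁.norm h, ← h₂.norm h]
    simp only [Pi.mul_apply, map_mul]
    ring
  one := by simp [h₁.one, h₂.one]
  div h hne := by
    by_cases e : c₁ h = N₁
    · obtain ⟨b, hb, he⟩ := h₂.div h fun e2 => hne (by show c₁ h * c₂ h = _; rw [e, e2])
      exact ⟨δ₁ h * b, (h₁.integral h).mul hb, by rw [Pi.mul_apply, he]; ring⟩
    · obtain ⟨b, hb, he⟩ := h₁.div h e
      exact ⟨b * δ₂ h, hb.mul (h₂.integral h), by rw [Pi.mul_apply, he]; ring⟩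

theorem delta_one {H : Type u} [Group H] [Fintype H] (L : ℕ) (ζ : ℂ) {c : H → ℕ} {N : ℕ}
    (hc : ∀ h, c h = N) : Delta L ζ c N (fun _ => 1) where
  coef := intCoef_of_isCharacter isCharacter_one
  field _ := one_mem _
  integral _ := isIntegral_one
  norm h := by simp [hc]
  one := rfl
  div h hne := absurd (hc h) hne

section Roots

variable {p : ℕ} [hp : Fact p.Prime] {ζ : ℂ} (hζ : IsPrimitiveRoot ζ p)
include hζ

theorem isIntegral_zeta : IsIntegral ℤ ζ := hζ.isIntegral hp.out.pos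

theorem one_sub_pow_dvd (n : ℕ) : ∃ b, IsIntegral ℤ b ∧ 1 - ζ ^ n = (1 - ζ) * b :=
  ⟨∑ i ∈ Finset.range n, ζ ^ i, IsIntegral.sum _ fun i _ => (isIntegral_zeta hζ).pow i,
    (mul_neg_geom_sum ζ n).symm⟩

theorem natCast_p_eq_mul : ∃ b, IsIntegral ℤ b ∧ (p : ℂ) = (1 - ζ) * b := by
  obtain ⟨n, hn⟩ : ∃ n, p = n + 2 := ⟨p - 2, by have := hp.out.two_le; omega⟩
  subst hn
  have h := hζ.prod_one_sub_pow_eq_order
  rw [Finset.prod_range_succ', zero_add, pow_one] at h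
  refine ⟨∏ k ∈ Finset.range n, (1 - ζ ^ (k + 1 + 1)),
    IsIntegral.prod _ fun k _ => isIntegral_one.sub ((isIntegral_zeta hζ).pow _), ?_⟩
  rw [mul_comm, h]
  push_cast
  ring

theorem not_one_sub_dvd_one : ¬ ∃ b, IsIntegral ℤ b ∧ (1 : ℂ) = (1 - ζ) * b := by
  rintro ⟨b, hb, hb1⟩
  obtain ⟨n, hn⟩ : ∃ n, p = n + 1 := ⟨p - 1, by have := hp.out.one_le; omega⟩
  subst hn
  have hu : ∀ k ∈ Finset.range n, ∃ e, IsIntegral ℤ e ∧ (1 - ζ ^ (k + 1)) * e = 1 := by
    intro k hk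
    have hk' := Finset.mem_range.1 hk
    have hcop : (k + 1).Coprime (n + 1) :=
      (hp.out.coprime_iff_not_dvd.2 fun hd => absurd (Nat.le_of_dvd (by omega) hd) (by omega)).symm
    obtain ⟨j, -, hj⟩ := (hζ.pow_of_coprime _ hcop).eq_pow_of_pow_eq_one hζ.pow_eq_one
    refine ⟨b * ∑ i ∈ Finset.range j, (ζ ^ (k + 1)) ^ i,
      hb.mul (IsIntegral.sum _ fun i _ => ((isIntegral_zeta hζ).pow _).pow i), ?_⟩
    rw [mul_comm b, ← mul_assoc, mul_neg_geom_sum, hj, ← hb1]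
  choose e he1 he2 using hu
  have h := hζ.prod_one_sub_pow_eq_order
  have h1 : ((n + 1 : ℕ) : ℂ) * ∏ k ∈ (Finset.range n).attach, e k.1 k.2 = 1 := by
    push_cast
    rw [← h, ← Finset.prod_attach (Finset.range n), ← Finset.prod_mul_distrib]
    exact Finset.prod_eq_one fun k _ => he2 k.1 k.2
  have hint : IsIntegral ℤ (((1 : ℕ) : ℂ) / ((n + 1 : ℕ) : ℂ)) := by
    rw [Nat.cast_one, eq_comm.1 (eq_div_of_mul_eq (Nat.cast_ne_zero.2 (Nat.succ_ne_zero n) : ((n + 1 : ℕ) : ℂ) ≠ 0)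
      (by rw [mul_comm]; exact h1))]
    exact IsIntegral.prod _ fun k _ => he1 k.1 k.2
  have := Nat.le_of_dvd one_pos (nat_dvd_of_isIntegral (Nat.succ_ne_zero n) hint)
  have := hp.out.two_le
  omega

/-- An integer divisible by `1 - ζ` is divisible by `p`. -/
theorem dvd_of_one_sub_dvd {m : ℕ} (h : ∃ b, IsIntegral ℤ b ∧ (m : ℂ) = (1 - ζ) * b) : p ∣ m := by
  by_contra hd
  obtain ⟨b, hb, he⟩ := h
  obtain ⟨b', hb', he'⟩ := natCast_p_eq_mul hζ
  have hbez : ((Int.gcd m p : ℤ) : ℂ) = (((m : ℤ) * Int.gcdA m p + (p : ℤ) * Int.gcdB m p : ℤ) : ℂ) := by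
    rw [← Int.gcd_eq_gcd_ab]
  rw [show Int.gcd m p = 1 from (hp.out.coprime_iff_not_dvd.2 hd).symm] at hbez
  refine not_one_sub_dvd_one hζ ⟨b * (Int.gcdA m p : ℂ) + b' * (Int.gcdB m p : ℂ),
    (hb.mul isIntegral_algebraMap).add (hb'.mul isIntegral_algebraMap), ?_⟩
  push_cast at hbez
  refine hbez.trans ?_
  rw [he, he']
  ring

end Roots

section Fix

variable {k : Type*} {H : Type u} {U : Type v} [CommSemiring k] [Group H] [AddCommGroup U]
  [Module k U]

/-- The number of fixed points of `h`. -/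
noncomputable def fixCard (ρ : Representation k H U) (h : H) : ℕ := Nat.card {x : U // ρ h x = x}

end Fix

section PGroup

variable {p : ℕ} [hp : Fact p.Prime] {H : Type u} [Group H] {U : Type v} [AddCommGroup U]
  [Module (ZMod p) U] [Finite U] (ρ : Representation (ZMod p) H U)

theorem exists_card_eq_pow : ∃ d, Nat.card U = p ^ d :=
  ⟨_, by rw [Module.natCard_eq_pow_finrank (K := ZMod p), Nat.card_zmod]⟩

/-- The fixed points as a subgroup. -/
def fixAdd (h : H) : AddSubgroup U where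
  carrier := {x | ρ h x = x}
  add_mem' := fun {a b} ha hb => show ρ h (a + b) = a + b by rw [map_add, ha, hb]
  zero_mem' := map_zero _
  neg_mem' := fun {a} ha => show ρ h (-a) = -a by rw [map_neg, ha]

theorem card_fixAdd (h : H) : Nat.card (fixAdd ρ h) = fixCard ρ h := rfl

theorem fixCard_dvd (h : H) : fixCard ρ h ∣ Nat.card U :=
  (fixAdd ρ h).card_addSubgroup_dvd_card

omit [Finite U] in
theorem fixCard_one : fixCard ρ 1 = Nat.card U := by
  rw [fixCard]
  exact Nat.card_congr (Equiv.subtypeUnivEquiv fun x => by simp)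

theorem fixCard_pos (h : H) : 0 < fixCard ρ h :=
  Nat.pos_of_dvd_of_pos (fixCard_dvd ρ h) Nat.card_pos

theorem fixCard_coprime [Finite H] (hH : ¬ p ∣ Nat.card H) (h : H) :
    (fixCard ρ h).Coprime (Nat.card H) := by
  obtain ⟨d, hd⟩ := exists_card_eq_pow (p := p) (U := U)
  exact ((hp.out.coprime_iff_not_dvd.2 hH).pow_left d).coprime_dvd_left (hd ▸ fixCard_dvd ρ h)

theorem intCoef_fixCard [Fintype H] : IntCoef (fun h => (fixCard ρ h : ℂ)) := by
  classical
  letI := Fintype.ofFinite U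
  let π : H →* Matrix U U ℂ :=
    { toFun := fun h => Matrix.of fun w x => if w = ρ h x then 1 else 0
      map_one' := by ext w x; simp [Matrix.one_apply]
      map_mul' := fun a b => by
        ext w x
        simp [Matrix.mul_apply] }
  have h1 := intCoef_trace π (M := 1) (Or.inr ⟨1, one_ne_zero, pow_one _⟩) fun h => Commute.one_left _
  convert h1 using 1
  funext h
  rw [one_mul, fixCard, Nat.card_eq_fintype_card, Fintype.card_subtype, Matrix.trace]
  simp only [Matrix.diag, π]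
  rw [← Finset.sum_boole]
  exact Finset.sum_congr rfl fun x _ => if_congr ⟨Eq.symm, Eq.symm⟩ rfl rfl

theorem fixCard_prod {U₁ U₂ : Submodule (ZMod p) U} (hU : IsCompl U₁ U₂)
    (ρ₁ : Representation (ZMod p) H U₁) (ρ₂ : Representation (ZMod p) H U₂)
    (e₁ : ∀ g (x : U₁), (ρ₁ g x : U) = ρ g x) (e₂ : ∀ g (x : U₂), (ρ₂ g x : U) = ρ g x) (h : H) :
    fixCard ρ h = fixCard ρ₁ h * fixCard ρ₂ h := by
  rw [fixCard, fixCard, fixCard, ← Nat.card_prod]
  let E := Submodule.prodEquivOfIsCompl U₁ U₂ hU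
  have key : ∀ x : U₁ × U₂, ρ h (E x) = E (ρ₁ h x.1, ρ₂ h x.2) := fun x => by
    simp [E, Submodule.coe_prodEquivOfIsCompl', e₁, e₂]
  refine Nat.card_congr ((Equiv.subtypeEquiv (q := fun x => ρ h x = x) E.toEquiv fun x => ?_).symm.trans
    (Equiv.subtypeProdEquivProd (p := fun a => ρ₁ h a = a) (q := fun b => ρ₂ h b = b)))
  show _ ↔ ρ h (E x) = E x
  rw [key, E.injective.eq_iff, Prod.ext_iff]

end PGroup

end Cfsg.Agent.KGVReal
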