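import Cfsg.Agent.BlockChar.KGVReal.IntCoef
import Cfsg.Agent.Char.Zero

/-!
# The arithmetic mean bound over the Galois conjugates of nonzero coefficients
-/

namespace Cfsg.Agent.KGVReal

open Cfsg.Agent.Char
open scoped ComplexConjugate

universe u

/-- Field maps agreeing on the roots of unity agree on the cyclotomic field. -/
theorem eqOn_cycField {L : ℕ} (f g : ℂ →+* ℂ) (h : ∀ z : ℂ, z ^ L = 1 → f z = g z) {z : ℂ}
    (hz : z ∈ cycField L) : f z = g z := by
  induction hz using IntermediateField.adjoin_induction with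
  | mem x hx => exact h x hx
  | algebraMap q => simp
  | add x y _ _ hx hy => rw [map_add, map_add, hx, hy]
  | inv x _ hx => rw [map_inv₀, map_inv₀, hx]
  | mul x y _ _ hx hy => rw [map_mul, map_mul, hx, hy]

theorem cycField_mono {m L : ℕ} (h : m ∣ L) : cycField m ≤ cycField L := by
  refine IntermediateField.adjoin.mono ℚ _ _ fun z hz => ?_
  obtain ⟨c, rfl⟩ := h
  show z ^ (m * c) = 1
  rw [pow_mul, show z ^ m = 1 from hz, one_pow]

theorem norm_eq_one_of_pow {L : ℕ} [NeZero L] {z : ℂ} (h : z ^ L = 1) : ‖z‖ = 1 :=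
  Complex.norm_eq_one_of_pow_eq_one h (NeZero.ne L)

/-- Complex conjugation commutes with field maps on the cyclotomic field. -/
theorem map_conj_cycField {L : ℕ} [NeZero L] (σ : ℂ →+* ℂ) {z : ℂ} (hz : z ∈ cycField L) :
    σ (conj z) = conj (σ z) := by
  refine eqOn_cycField (σ.comp (starRingEnd ℂ)) ((starRingEnd ℂ).comp σ) (fun w hw => ?_) hz
  show σ (conj w) = conj (σ w)
  rw [← Complex.inv_eq_conj (norm_eq_one_of_pow hw), map_inv₀, Complex.inv_eq_conj]
  exact norm_eq_one_of_pow (L := L) (by rw [← map_pow, hw, map_one])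

/-- A nonzero algebraic integer of the cyclotomic field has mean square at least one over its
conjugates. -/
theorem card_le_sum_norm_sq {L : ℕ} [NeZero L] (s : (ZMod L)ˣ → ℂ →+* ℂ)
    (hs : ∀ k z, z ^ L = 1 → s k z = z ^ (k : ZMod L).val) {z : ℂ} (hz : z ∈ cycField L)
    (hint : IsIntegral ℤ z) (h0 : z ≠ 0) :
    (Fintype.card (ZMod L)ˣ : ℝ) ≤ ∑ k, ‖s k z‖ ^ 2 := by
  classical
  have hmem : ∀ (σ : ℂ →+* ℂ) {w}, w ∈ cycField L → σ w ∈ cycField L := by
    intro σ w hw
    induction hw using IntermediateField.adjoin_induction with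
    | mem x hx =>
      have h1 : σ x ^ L = 1 := by rw [← map_pow, show x ^ L = 1 from hx, map_one]
      exact IntermediateField.subset_adjoin ℚ _ h1
    | algebraMap q =>
      rw [show σ (algebraMap ℚ ℂ q) = algebraMap ℚ ℂ q by simp]
      exact (cycField L).algebraMap_mem q
    | add x y _ _ hx hy => rw [map_add]; exact add_mem hx hy
    | inv x _ hx => rw [map_inv₀]; exact inv_mem hx
    | mul x y _ _ hx hy => rw [map_mul]; exact mul_mem hx hy
  have hP : (∏ k, s k z) ∈ cycField L := prod_mem fun k _ => hmem _ hz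
  obtain ⟨q, hq⟩ := exists_rat_of_fixed (NeZero.ne L) hP fun j σ hj hσ => by
    rw [map_prod]
    refine Fintype.prod_equiv (Equiv.mulLeft (ZMod.unitOfCoprime j hj)) _ _ fun k => ?_
    refine eqOn_cycField (σ.comp (s k)) (s (ZMod.unitOfCoprime j hj * k)) (fun w hw => ?_) hz
    show σ (s k w) = _
    rw [hs k w hw, map_pow, hσ w hw, ← pow_mul, hs _ w hw]
    refine pow_eq_pow_of_modEq ?_ hw
    rw [← ZMod.natCast_eq_natCast_iff]
    simp
  obtain ⟨n, hn⟩ := exists_int_of_isIntegral_rat (q := q)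
    (hq ▸ IsIntegral.prod _ fun k _ => hint.map ((s k).toIntAlgHom))
  have hne : ∀ k, s k z ≠ 0 := fun k => by simpa using h0
  have hpos : ∀ k, 0 < ‖s k z‖ ^ 2 := fun k => by have := hne k; positivity
  have h1 : (1 : ℝ) ≤ ∏ k, ‖s k z‖ ^ 2 := by
    rw [Finset.prod_pow, ← norm_prod, hq, ← hn, Rat.cast_intCast, Complex.norm_intCast, sq_abs]
    have hn0 : n ≠ 0 := fun e => Finset.prod_ne_zero_iff.2 (fun k _ => hne k) (by
      rw [hq, ← hn, e]; simp)
    exact_mod_cast sq_pos_iff.2 hn0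
  have hlog : ∑ k, Real.log (‖s k z‖ ^ 2) ≤ ∑ k, (‖s k z‖ ^ 2 - 1) :=
    Finset.sum_le_sum fun k _ => Real.log_le_sub_one_of_pos (hpos k)
  rw [← Real.log_prod (fun k _ => (hpos k).ne'), Finset.sum_sub_distrib, Finset.sum_const,
    nsmul_eq_mul, mul_one, Finset.card_univ] at hlog
  have := Real.log_nonneg h1
  linarith

variable {H : Type u} [Group H] [Fintype H]

/-- Parseval for the coefficients of a class function with respect to the conjugate characters. -/
theorem sum_norm_sq_map (σ : ℂ →+* ℂ) {f : H → ℂ} (hf : IsClassFunction H f) :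
    (Nat.card H : ℝ) * ∑ ξ : IrrCharacter H, ‖σ (classInner f (ξ : H → ℂ))‖ ^ 2 =
      ∑ h, ‖σ (f h)‖ ^ 2 := by
  classical
  set F : H → ℂ := fun h => σ (f h) with hF
  have hFc : IsClassFunction H F := fun a b => by simp [F, hf a b]
  let τ : IrrCharacter H → IrrCharacter H := fun ξ => ⟨fun g => σ ((ξ : H → ℂ) g), isIrr_map σ ξ.2⟩
  have hτ : Function.Bijective τ := (Finite.injective_iff_bijective).1 fun a b e =>
    Subtype.ext (funext fun g => σ.injective (congrFun (congrArg Subtype.val e) g))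
  have hconj : ∀ ξ : IrrCharacter H, classInner (ξ : H → ℂ) F = conj (classInner F (ξ : H → ℂ)) := by
    intro ξ
    simp only [classInner, map_mul, map_inv₀, map_natCast, map_sum, Complex.conj_conj]
    congr 1
    exact Finset.sum_congr rfl fun h _ => mul_comm _ _
  have h1 := classInner_eq_sum (f' := F) hFc
  rw [← hτ.sum_comp (fun ξ => classInner F (ξ : H → ℂ) * classInner (ξ : H → ℂ) F)] at h1
  simp only [hconj, Complex.mul_conj'] at h1
  have h2 : ∀ ξ : IrrCharacter H,
      classInner F (τ ξ : H → ℂ) = σ (classInner f (ξ : H → ℂ)) := fun ξ =>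
    classInner_map σ (IsIrr.isCharacter ξ.2)
  simp only [h2] at h1
  rw [show classInner F F = (Nat.card H : ℂ)⁻¹ * ∑ h, F h * conj (F h) from rfl] at h1
  simp only [Complex.mul_conj'] at h1
  rw [inv_mul_eq_iff_eq_mul₀ (card_ne_zero (G := H))] at h1
  exact_mod_cast h1.symm

/-- The row bound. -/
theorem row_bound {L : ℕ} [NeZero L] (hHL : Nat.card H ∣ L) (s : (ZMod L)ˣ → ℂ →+* ℂ)
    (hs : ∀ k z, z ^ L = 1 → s k z = z ^ (k : ZMod L).val) {f : H → ℂ} (hf : IntCoef f)
    (hfield : ∀ h, f h ∈ cycField L) (hne : ∀ ξ : IrrCharacter H, classInner f (ξ : H → ℂ) ≠ 0) :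
    (Fintype.card (ZMod L)ˣ : ℝ) * (Nat.card (ConjClasses H) * Nat.card H) ≤
      ∑ k, ∑ h, ‖s k (f h)‖ ^ 2 := by
  classical
  simp only [← sum_norm_sq_map _ hf.cls, ← Finset.mul_sum]
  rw [Finset.sum_comm]
  have hmem : ∀ ξ : IrrCharacter H, classInner f (ξ : H → ℂ) ∈ cycField L := fun ξ => by
    refine mul_mem (inv_mem (natCast_mem _ _)) (sum_mem fun h _ => mul_mem (hfield h) ?_)
    rw [← IsChar.inv_eq_conj (IsIrr.isCharacter ξ.2) h]
    exact cycField_mono hHL (IsChar.mem_cycField (IsIrr.isCharacter ξ.2) _)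
  have hle := Finset.card_nsmul_le_sum Finset.univ
    (fun ξ : IrrCharacter H => ∑ k, ‖s k (classInner f (ξ : H → ℂ))‖ ^ 2) _
    fun ξ _ => card_le_sum_norm_sq s hs (hmem ξ) (hf.int ξ) (hne ξ)
  rw [nsmul_eq_mul, Finset.card_univ, ← Nat.card_eq_fintype_card, card_irrCharacter] at hle
  calc _ = (Nat.card H : ℝ) * ((Nat.card (ConjClasses H) : ℝ) * Fintype.card (ZMod L)ˣ) := by ring
    _ ≤ _ := mul_le_mul_of_nonneg_left hle (Nat.cast_nonneg _)

end Cfsg.Agent.KGVReal
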