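import Cfsg.Agent.BlockChar.KGVReal.Delta

/-!
# The symmetric part: Gauss sums
-/

namespace Cfsg.Agent.KGVReal

open Cfsg.Agent.Char Module
open scoped ComplexConjugate

universe u v

variable {p : ℕ} [hp : Fact p.Prime] {H : Type u} [Group H] [Fintype H] {W : Type v}
  [AddCommGroup W] [Module (ZMod p) W] [Finite W]

/-- A twice fixed vector of a coprime operator is fixed. -/
theorem fix_of_fix_sub (ρ : Representation (ZMod p) H W) (hH : ¬ p ∣ Nat.card H) (h : H) (t : W)
    (ht : ρ h (ρ h t - t) = ρ h t - t) : ρ h t = t := by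
  have hpow : ∀ n : ℕ, ρ (h ^ n) t = t + (n : ZMod p) • (ρ h t - t) := fun n => by
    induction n with
    | zero => simp
    | succ n ih =>
      rw [pow_succ', map_mul, Module.End.mul_apply, ih, map_add, map_smul, ht]
      push_cast
      rw [add_smul, one_smul]
      abel
  have h1 := hpow (Nat.card H)
  rw [pow_card_eq_one', map_one, Module.End.one_apply, left_eq_add, smul_eq_zero] at h1
  exact sub_eq_zero.1 (h1.resolve_left fun e => hH ((ZMod.natCast_eq_zero_iff _ _).1 e))

theorem exists_delta_symm (ρ : Representation (ZMod p) H W) (hH : ¬ p ∣ Nat.card H) {ζ : ℂ}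
    (hζ : IsPrimitiveRoot ζ p) {L : ℕ} (hpL : p ∣ L) (S : LinearMap.BilinForm (ZMod p) W)
    (hsym : ∀ x y, S x y = S y x) (hinv : ∀ h x y, S (ρ h x) (ρ h y) = S x y)
    (hnd : ∀ x, (∀ y, S x y = 0) → x = 0) :
    ∃ δ, Delta L ζ (fixCard ρ) (Nat.card W) δ := by
  classical
  letI := Fintype.ofFinite W
  have : NeZero p := ⟨hp.out.ne_zero⟩
  let ψ : AddChar (ZMod p) ℂ := AddChar.zmodChar p hζ.pow_eq_one
  have hψ : ∀ a, ψ a = ζ ^ a.val := fun a => rfl
  have hψint : ∀ a, IsIntegral ℤ (ψ a) := fun a => (isIntegral_zeta hζ).pow _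
  have hψmem : ∀ a, ψ a ∈ cycField L := fun a => by
    refine pow_mem (IntermediateField.subset_adjoin ℚ _ ?_) _
    obtain ⟨c, rfl⟩ := hpL
    show ζ ^ (p * c) = 1
    rw [pow_mul, hζ.pow_eq_one, one_pow]
  have hψne : ∀ a : ZMod p, a ≠ 0 → ψ a ≠ 1 := fun a ha e => by
    refine ha ((ZMod.val_eq_zero a).1 ?_)
    exact Nat.eq_zero_of_dvd_of_lt (hζ.dvd_of_pow_eq_one _ e) (ZMod.val_lt a)
  let q : H → W → ZMod p := fun h x => S x (ρ h x - x)
  let D : H → ℂ := fun h => ∑ x, ψ (q h x)
  -- the trace description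
  have hD : IntCoef D := by
    let π : H →* Matrix W W ℂ :=
      { toFun := fun h => Matrix.of fun w x => if w = ρ h x then 1 else 0
        map_one' := by ext w x; simp [Matrix.one_apply]
        map_mul' := fun a b => by
          ext w x
          simp [Matrix.mul_apply] }
    let M : Matrix W W ℂ := Matrix.of fun x w => ψ (S x (w - x))
    have h1 := intCoef_trace π (M := M) (Or.inl fun i j => hψint _) fun h => by
      show M * π h = π h * M
      ext x w
      simp only [Matrix.mul_apply, M, π, MonoidHom.coe_mk, OneHom.coe_mk, Matrix.of_apply, mul_ite,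
        mul_one, mul_zero, ite_mul, one_mul, zero_mul, Finset.sum_ite_eq', Finset.mem_univ, if_true]
      have hback : ρ h (ρ h⁻¹ x) = x := by
        rw [← Module.End.mul_apply, ← map_mul, mul_inv_cancel, map_one, Module.End.one_apply]
      rw [Finset.sum_eq_single (ρ h⁻¹ x) (fun y _ hy => if_neg fun e => hy (by
        rw [e, ← Module.End.mul_apply, ← map_mul, inv_mul_cancel, map_one, Module.End.one_apply]))
        (fun e => absurd (Finset.mem_univ _) e), if_pos hback.symm]
      congr 1
      rw [← hinv h (ρ h⁻¹ x) (w - ρ h⁻¹ x), map_sub (ρ h), hback]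
    convert h1 using 1
    funext h
    simp [D, q, M, π, Matrix.trace, Matrix.mul_apply]
  -- quotient description
  have hqK : ∀ h x t, ρ h t = t → q h (x + t) = q h x := by
    intro h x t ht
    have h2 : S t (ρ h x - x) = 0 := by
      rw [map_sub, ← hinv h t x, ht, sub_self]
    simp only [q]
    rw [map_add (ρ h), ht, show ρ h x + t - (x + t) = ρ h x - x by abel, map_add, LinearMap.add_apply, h2,
      add_zero]
  have hsum : ∀ h, D h = (fixCard ρ h : ℂ) *
      ∑ z : W ⧸ fixAdd ρ h, ψ (q h z.out) := by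
    intro h
    letI := Fintype.ofFinite (fixAdd ρ h)
    rw [Finset.mul_sum]
    refine (Fintype.sum_equiv (AddSubgroup.addGroupEquivQuotientProdAddSubgroup (s := fixAdd ρ h))
      _ (fun zk => ψ (q h zk.1.out)) fun x => ?_).trans ?_
    · congr 1
      obtain ⟨⟨t, ht⟩, hxt⟩ := QuotientAddGroup.mk_out_eq_mul (fixAdd ρ h) x
      show _ = q h ((x : W ⧸ fixAdd ρ h).out)
      rw [hxt, hqK h x t ht]
    · rw [Fintype.sum_prod_type]
      refine Finset.sum_congr rfl fun z _ => ?_
      show ∑ _y : fixAdd ρ h, ψ (q h z.out) = _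
      rw [Finset.sum_const, Finset.card_univ, nsmul_eq_mul, ← Nat.card_eq_fintype_card, card_fixAdd]
  let δ : H → ℂ := fun h => ∑ z : W ⧸ fixAdd ρ h, ψ (q h z.out)
  have hc0 : ∀ h, (fixCard ρ h : ℂ) ≠ 0 := fun h => Nat.cast_ne_zero.2 (fixCard_pos ρ h).ne'
  have hδint : ∀ h, IsIntegral ℤ (δ h) := fun h => IsIntegral.sum _ fun z _ => hψint _
  have hδc : IsClassFunction H δ := fun g a => by
    refine mul_left_cancel₀ (hc0 g) ?_
    have e : (fixCard ρ (a * g * a⁻¹) : ℂ) = fixCard ρ g := (intCoef_fixCard ρ).cls g a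
    rw [← hsum g]
    rw [← e]
    exact (hsum _).symm.trans (hD.cls g a)
  refine ⟨δ, IntCoef.of_mul (intCoef_fixCard ρ) (fixCard_pos ρ) (fixCard_coprime ρ hH) hδc hδint ?_,
    fun h => sum_mem fun z _ => hψmem _, hδint, fun h => ?_, ?_, fun h hne => ?_⟩
  · convert hD using 1
    funext h
    exact (hsum h).symm
  · -- absolute value
    have hb : ∀ x t, q h (x + t) = q h x + q h t + (S x (ρ h t - t) + S t (ρ h x - x)) := fun x t => by
      simp only [q, map_add, map_sub, LinearMap.add_apply, LinearMap.sub_apply]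
      ring
    have hlin : ∀ x t, S x (ρ h t - t) + S t (ρ h x - x) =
        S x (ρ h t - t + (ρ h⁻¹ t - t)) := fun x t => by
      rw [map_add]
      congr 1
      rw [map_sub, map_sub]
      congr 1
      · rw [hsym t (ρ h x), ← hinv h x (ρ h⁻¹ t), ← Module.End.mul_apply, ← map_mul,
          mul_inv_cancel, map_one, Module.End.one_apply]
      · exact hsym _ _
    have hrad : ∀ t, (∀ x, S x (ρ h t - t + (ρ h⁻¹ t - t)) = 0) ↔ ρ h t = t := by
      intro t
      constructor
      · intro hz
        have h0 : ρ h t - t + (ρ h⁻¹ t - t) = 0 := hnd _ fun y => by rw [hsym]; exact hz y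
        refine fix_of_fix_sub ρ hH h t ?_
        have h1 := congrArg (ρ h) h0
        rw [map_add, map_zero, map_sub _ (ρ h⁻¹ t) t, ← Module.End.mul_apply (ρ h) (ρ h⁻¹),
          ← map_mul, mul_inv_cancel, map_one, Module.End.one_apply, add_eq_zero_iff_eq_neg,
          neg_sub] at h1
        exact h1
      · intro ht x
        have h2 : ρ h⁻¹ t = t := by
          conv_lhs => rw [← ht]
          rw [← Module.End.mul_apply, ← map_mul, inv_mul_cancel, map_one, Module.End.one_apply]
        simp [ht, h2]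
    have hconj : conj (D h) = ∑ x, ψ (-(q h x)) := by
      simp only [D, map_sum, AddChar.map_neg_eq_conj]
    have hnorm : D h * conj (D h) = (Nat.card W : ℂ) * fixCard ρ h := by
      rw [hconj, Finset.mul_sum]
      have h3 : ∀ x, D h * ψ (-(q h x)) =
          ∑ t, ψ (q h t) * ψ (S x (ρ h t - t + (ρ h⁻¹ t - t))) := fun x => by
        rw [Finset.sum_mul]
        refine (Fintype.sum_equiv (Equiv.addLeft x) _ _ fun t => ?_).symm
        show _ = ψ (q h (x + t)) * _
        rw [← AddChar.map_add_eq_mul, ← AddChar.map_add_eq_mul, hb, hlin]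
        congr 1
        abel
      rw [Finset.sum_congr rfl fun x _ => h3 x, Finset.sum_comm]
      simp only [← Finset.mul_sum]
      have h4 : ∀ t, ∑ x, ψ (S x (ρ h t - t + (ρ h⁻¹ t - t))) =
          if ρ h t = t then (Nat.card W : ℂ) else 0 := by
        intro t
        split_ifs with ht
        · rw [Finset.sum_congr rfl fun x _ => by rw [(hrad t).2 ht x, AddChar.map_zero_eq_one],
            Finset.sum_const, Finset.card_univ, nsmul_one, Nat.card_eq_fintype_card]
        · set y := ρ h t - t + (ρ h⁻¹ t - t) with hy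
          obtain ⟨x, hx⟩ : ∃ x, S x y ≠ 0 := by
            by_contra! hh
            exact ht ((hrad t).1 hh)
          refine AddChar.sum_eq_zero_of_ne_one
            (ψ := ψ.compAddMonoidHom ((S.flip y).toAddMonoidHom)) (fun e => ?_)
          refine hψne _ hx ?_
          have := DFunLike.congr_fun e x
          simpa using this
      simp only [h4, mul_ite, mul_zero]
      rw [← Finset.sum_filter, Finset.sum_congr rfl fun t ht => by
        rw [show q h t = 0 by simp [q, (Finset.mem_filter.1 ht).2], AddChar.map_zero_eq_one, one_mul],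
        Finset.sum_const, nsmul_eq_mul, fixCard, Nat.card_eq_fintype_card (α := {x : W // ρ h x = x}),
        Fintype.card_subtype, mul_comm]
    rw [hsum h, map_mul, Complex.conj_natCast] at hnorm
    refine mul_left_cancel₀ (hc0 h) ?_
    rw [mul_comm (fixCard ρ h : ℂ) (Nat.card W : ℂ), ← hnorm]
    ring
  · refine mul_left_cancel₀ (hc0 1) ?_
    rw [← hsum 1, mul_one, fixCard_one, Nat.card_eq_fintype_card]
    simp [D, q]
  · obtain ⟨d, hd⟩ := exists_card_eq_pow (p := p) (U := W)
    have hmul : Nat.card W = Nat.card (W ⧸ fixAdd ρ h) * fixCard ρ h :=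
      AddSubgroup.card_eq_card_quotient_mul_card_addSubgroup _
    obtain ⟨j, -, hj⟩ := (Nat.dvd_prime_pow hp.out).1
      (show Nat.card (W ⧸ fixAdd ρ h) ∣ p ^ d from ⟨fixCard ρ h, hd ▸ hmul⟩)
    rcases Nat.eq_zero_or_pos j with rfl | hj0
    · rw [hj, pow_zero, one_mul] at hmul
      exact absurd hmul.symm hne
    obtain ⟨m, hm⟩ : p ∣ Nat.card (W ⧸ fixAdd ρ h) := hj ▸ dvd_pow_self p hj0.ne'
    obtain ⟨bp, hbp, hbpe⟩ := natCast_p_eq_mul hζ
    choose b hb hbe using fun z : W ⧸ fixAdd ρ h => one_sub_pow_dvd hζ (q h z.out).val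
    refine ⟨bp * (m : ℂ) - ∑ z, b z, (hbp.mul (isIntegral_algebraMap (x := (m : ℤ)))).sub
      (IsIntegral.sum _ fun z _ => hb z), ?_⟩
    have h5 : δ h = (Nat.card (W ⧸ fixAdd ρ h) : ℂ) - ∑ z : W ⧸ fixAdd ρ h, (1 - ζ) * b z := by
      simp only [← hbe, Finset.sum_sub_distrib, Finset.sum_const, Finset.card_univ, nsmul_one,
        Nat.card_eq_fintype_card, δ, hψ]
      ring
    rw [h5, ← Finset.mul_sum, hm, Nat.cast_mul, hbpe]
    ring

end Cfsg.Agent.KGVReal
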