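import Cfsg.Agent.BlockChar.KGVReal.Delta

/-!
# The central extension of a symplectic module by a bilinear two-cocycle
-/

namespace Cfsg.Agent.KGVReal

universe u

variable {p : ℕ} {U : Type u} [AddCommGroup U] [Module (ZMod p) U]

/-- The group on `U × ZMod p` with the cocycle `c`. -/
@[ext]
structure Heis (c : LinearMap.BilinForm (ZMod p) U) : Type u where
  /-- vector -/
  u : U
  /-- central coordinate -/
  z : ZMod p

variable {c : LinearMap.BilinForm (ZMod p) U}

instance : Mul (Heis c) := ⟨fun x y => ⟨x.u + y.u, x.z + y.z + c x.u y.u⟩⟩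
instance : One (Heis c) := ⟨⟨0, 0⟩⟩
instance : Inv (Heis c) := ⟨fun x => ⟨-x.u, -x.z + c x.u x.u⟩⟩

theorem Heis.mul_def (x y : Heis c) : x * y = ⟨x.u + y.u, x.z + y.z + c x.u y.u⟩ := rfl
theorem Heis.one_def : (1 : Heis c) = ⟨0, 0⟩ := rfl

instance : Group (Heis c) := Group.ofLeftAxioms
  (fun x y w => by
    ext
    · exact add_assoc _ _ _
    · simp only [Heis.mul_def, map_add, LinearMap.add_apply]
      ring)
  (fun x => by ext <;> simp [Heis.mul_def, Heis.one_def])
  (fun x => by
    ext
    · exact neg_add_cancel _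
    · show -x.z + c x.u x.u + x.z + c (-x.u) x.u = 0
      simp)

/-- The underlying product. -/
def Heis.equiv (c : LinearMap.BilinForm (ZMod p) U) : Heis c ≃ U × ZMod p where
  toFun x := (x.u, x.z)
  invFun x := ⟨x.1, x.2⟩
  left_inv _ := rfl
  right_inv _ := rfl

instance [Finite U] [NeZero p] : Finite (Heis c) := Finite.of_equiv _ (Heis.equiv c).symm

theorem Heis.card [Finite U] [NeZero p] : Nat.card (Heis c) = Nat.card U * p := by
  rw [Nat.card_congr (Heis.equiv c), Nat.card_prod, Nat.card_zmod]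

/-- The group with a cocycle invariant under `H` is acted on by `H`. -/
def heisAct {H : Type*} [Group H] (ρ : Representation (ZMod p) H U)
    (hc : ∀ h x y, c (ρ h x) (ρ h y) = c x y) : H →* MulAut (Heis c) where
  toFun h :=
    { toFun := fun x => ⟨ρ h x.u, x.z⟩
      invFun := fun x => ⟨ρ h⁻¹ x.u, x.z⟩
      left_inv := fun x => Heis.ext (by
        show ρ h⁻¹ (ρ h x.u) = x.u
        rw [← Module.End.mul_apply, ← map_mul, inv_mul_cancel, map_one, Module.End.one_apply]) rfl
      right_inv := fun x => Heis.ext (by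
        show ρ h (ρ h⁻¹ x.u) = x.u
        rw [← Module.End.mul_apply, ← map_mul, mul_inv_cancel, map_one, Module.End.one_apply]) rfl
      map_mul' := fun x y => Heis.ext (map_add _ _ _) (by
        show x.z + y.z + c x.u y.u = x.z + y.z + c (ρ h x.u) (ρ h y.u)
        rw [hc]) }
  map_one' := MulEquiv.ext fun x => Heis.ext (by show ρ 1 x.u = _; rw [map_one]; rfl) rfl
  map_mul' a b := MulEquiv.ext fun x => Heis.ext (by show ρ (a * b) x.u = _; rw [map_mul]; rfl) rfl

@[simp] theorem heisAct_apply {H : Type*} [Group H] (ρ : Representation (ZMod p) H U)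
    (hc : ∀ h x y, c (ρ h x) (ρ h y) = c x y) (h : H) (x : Heis c) :
    heisAct ρ hc h x = ⟨ρ h x.u, x.z⟩ := rfl

/-- An alternating invariant form is the antisymmetrization of an invariant form. -/
theorem exists_cocycle [Fact p.Prime] [Finite U] {H : Type*} [Group H] [Fintype H]
    (ρ : Representation (ZMod p) H U) (hH : ¬ p ∣ Nat.card H)
    (A : LinearMap.BilinForm (ZMod p) U) (hA : ∀ x, A x x = 0)
    (hinv : ∀ h x y, A (ρ h x) (ρ h y) = A x y) :
    ∃ c : LinearMap.BilinForm (ZMod p) U,
      (∀ h x y, c (ρ h x) (ρ h y) = c x y) ∧ ∀ x y, c x y - c y x = A x y := by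
  classical
  have hn : (Nat.card H : ZMod p) ≠ 0 := fun e => hH ((ZMod.natCast_eq_zero_iff _ _).1 e)
  let b := Module.finBasis (ZMod p) U
  let T : Matrix _ _ (ZMod p) := Matrix.of fun i j => if i < j then A (b i) (b j) else 0
  let c₀ : LinearMap.BilinForm (ZMod p) U := Matrix.toBilin b T
  have h0 : c₀ - c₀.flip = A := by
    refine LinearMap.ext_basis b b fun i j => ?_
    have hc : ∀ k l, c₀ (b k) (b l) = T k l := fun k l => by
      simp [c₀, Matrix.toBilin_apply, Finsupp.single_apply]
    show c₀ (b i) (b j) - c₀ (b j) (b i) = A (b i) (b j)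
    rw [hc, hc]
    simp only [T, Matrix.of_apply]
    rcases lt_trichotomy i j with h | h | h
    · rw [if_pos h, if_neg h.asymm, sub_zero]
    · subst h; rw [if_neg (lt_irrefl _), sub_zero, hA]
    · rw [if_neg h.asymm, if_pos h, zero_sub]
      have := hA (b i + b j)
      simp only [map_add, LinearMap.add_apply, hA, zero_add, add_zero] at this
      exact neg_eq_of_add_eq_zero_right (by linear_combination this)
  refine ⟨(Nat.card H : ZMod p)⁻¹ • ∑ h : H, c₀.compl₁₂ (ρ h) (ρ h), fun a x y => ?_,
    fun x y => ?_⟩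
  · simp only [LinearMap.smul_apply, LinearMap.coe_sum, Finset.sum_apply, LinearMap.compl₁₂_apply]
    congr 1
    refine Fintype.sum_equiv (Equiv.mulRight a) _ _ fun h => ?_
    simp [map_mul]
  · simp only [LinearMap.smul_apply, LinearMap.coe_sum, Finset.sum_apply, LinearMap.compl₁₂_apply,
      ← smul_sub, ← Finset.sum_sub_distrib]
    have h1 : ∀ h, c₀ (ρ h x) (ρ h y) - c₀ (ρ h y) (ρ h x) = A x y := fun h => by
      rw [← hinv h x y, ← h0]; rfl
    rw [Finset.sum_congr rfl fun h _ => h1 h, Finset.sum_const, Finset.card_univ, nsmul_eq_mul,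
      smul_eq_mul, ← Nat.card_eq_fintype_card, inv_mul_cancel_left₀ hn]

end Cfsg.Agent.KGVReal
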