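import Mathlib
import Cfsg.Agent.Char.Gen
import Cfsg.Agent.Char.Ortho
import Cfsg.Agent.Char.Integral

/-!
# Class functions with algebraic integer coefficients

Trace functions `h ↦ tr (M π(h))` have algebraic integer coefficients when `M` commutes with the
representation and has algebraic integer entries or finite order.
-/

namespace Cfsg.Agent.KGVReal

open Cfsg.Agent.Char
open scoped ComplexConjugate Kronecker

universe u

/-- The eigenvalues of `M` are algebraic integers, for one of two simple reasons. -/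
def GoodMat {ι : Type*} [Fintype ι] [DecidableEq ι] (M : Matrix ι ι ℂ) : Prop :=
  (∀ i j, IsIntegral ℤ (M i j)) ∨ ∃ n : ℕ, n ≠ 0 ∧ M ^ n = 1

theorem GoodMat.isIntegral_eigen {ι : Type*} [Fintype ι] [DecidableEq ι] {M : Matrix ι ι ℂ}
    (hM : GoodMat M) {μ : ℂ} {x : ι → ℂ} (hx0 : x ≠ 0) (hx : M.mulVec x = μ • x) :
    IsIntegral ℤ μ := by
  rcases hM with hM | ⟨n, hn, hM⟩
  · let M' : Matrix ι ι (integralClosure ℤ ℂ) := fun i j => ⟨M i j, hM i j⟩
    have hMM : M'.map (algebraMap (integralClosure ℤ ℂ) ℂ) = M := rfl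
    have hdet : (Matrix.scalar ι μ - M).det = 0 := Matrix.exists_mulVec_eq_zero_iff.1
      ⟨x, hx0, by simp [Matrix.sub_mulVec, hx, Matrix.smul_mulVec, ← Matrix.smul_one_eq_diagonal]⟩
    have hint : IsIntegral (integralClosure ℤ ℂ) μ := ⟨M'.charpoly, M'.charpoly_monic, by
      rw [← Polynomial.eval_map, ← Matrix.charpoly_map, hMM, Matrix.eval_charpoly, hdet]⟩
    exact isIntegral_trans μ hint
  · have hpow : ∀ k : ℕ, (M ^ k).mulVec x = μ ^ k • x := fun k => by
      induction k with
      | zero => simp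
      | succ k ih => rw [pow_succ, ← Matrix.mulVec_mulVec, hx, Matrix.mulVec_smul, ih, smul_smul,
          pow_succ']
    have h1 := hpow n
    rw [hM, Matrix.one_mulVec] at h1
    have h2 : μ ^ n = 1 := (smul_left_injective ℂ hx0 (show (fun c : ℂ => c • x) 1 =
      (fun c : ℂ => c • x) (μ ^ n) by simpa using h1)).symm
    exact IsIntegral.of_pow (Nat.pos_of_ne_zero hn) (h2 ▸ isIntegral_one)

/-- The trace of a good matrix on the image of a commuting idempotent is an algebraic integer. -/
theorem isIntegral_trace_mul_idem {ι : Type*} [Fintype ι] [DecidableEq ι] {M E : Matrix ι ι ℂ}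
    (hM : GoodMat M) (hE : E * E = E) (hc : Commute M E) : IsIntegral ℤ (M * E).trace := by
  rw [Matrix.trace_eq_sum_roots_charpoly]
  refine IsIntegral.multiset_sum fun μ hμ => ?_
  rcases eq_or_ne μ 0 with rfl | hμ0
  · exact isIntegral_zero
  have h0 := (Polynomial.mem_roots'.1 hμ).2
  rw [Polynomial.IsRoot, Matrix.eval_charpoly] at h0
  obtain ⟨x, hx0, hx⟩ := Matrix.exists_mulVec_eq_zero_iff.2 h0
  have hx' : (M * E).mulVec x = μ • x := by
    rw [Matrix.sub_mulVec, sub_eq_zero] at hx
    rw [← hx]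
    simp [← Matrix.smul_one_eq_diagonal, Matrix.smul_mulVec]
  have hEx : E.mulVec x = x := by
    refine smul_right_injective _ hμ0 ?_
    show μ • E.mulVec x = μ • x
    rw [← Matrix.mulVec_smul, ← hx', Matrix.mulVec_mulVec]
    congr 1
    rw [← mul_assoc, ← hc.eq, mul_assoc, hE]
  refine hM.isIntegral_eigen hx0 ?_
  rw [← hx', ← Matrix.mulVec_mulVec, hEx]

variable {H : Type u} [Group H] [Fintype H]

/-- Class functions all of whose coefficients at irreducible characters are algebraic integers. -/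
structure IntCoef (f : H → ℂ) : Prop where
  cls : IsClassFunction H f
  int : ∀ ξ : IrrCharacter H, IsIntegral ℤ (classInner f (ξ : H → ℂ))

theorem intCoef_of_isCharacter {f : H → ℂ} (h : IsCharacter H f) : IntCoef f :=
  ⟨IsGen.isClassFunction (isGeneralized_of_isCharacter h), fun ξ => by
    obtain ⟨k, hk⟩ := classInner_isCharacter_eq_natCast h (IsIrr.isCharacter ξ.2)
    rw [hk]
    exact isIntegral_algebraMap (x := (k : ℤ))⟩

/-- Trace functions. -/
theorem intCoef_trace {ι : Type*} [Fintype ι] [DecidableEq ι] (π : H →* Matrix ι ι ℂ)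
    {M : Matrix ι ι ℂ} (hM : GoodMat M) (hc : ∀ h, Commute M (π h)) :
    IntCoef (fun h => (M * π h).trace) := by
  refine ⟨fun g a => ?_, fun ξ => ?_⟩
  · show (M * π (a * g * a⁻¹)).trace = (M * π g).trace
    rw [map_mul, map_mul, ← mul_assoc, ← mul_assoc, (hc a).eq, Matrix.trace_mul_comm, ← mul_assoc,
      ← mul_assoc, ← map_mul, inv_mul_cancel, map_one, one_mul]
  obtain ⟨ξ, hξ⟩ := ξ
  obtain ⟨d, ρ, hρ, rfl⟩ := hξ
  let R : H → Matrix (Fin d) (Fin d) ℂ := fun h => LinearMap.toMatrixAlgEquiv' (ρ h)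
  have hR : ∀ a b, R (a * b) = R a * R b := fun a b => by simp [R]
  have hR1 : R 1 = 1 := by simp [R]
  have hRtr : ∀ h, (R h).trace = ρ.character h := fun h => by
    simp only [R, Representation.character, LinearMap.trace_eq_matrix_trace ℂ (Pi.basisFun ℂ (Fin d)),
      LinearMap.toMatrix_eq_toMatrix']
    rfl
  let Q : H →* Matrix (ι × Fin d) (ι × Fin d) ℂ :=
    { toFun := fun h => π h ⊗ₖ (R h⁻¹).transpose
      map_one' := by rw [inv_one, hR1, map_one, Matrix.transpose_one, Matrix.one_kronecker_one]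
      map_mul' := fun a b => by
        rw [mul_inv_rev, hR, Matrix.transpose_mul, map_mul, Matrix.mul_kronecker_mul] }
  let T : Matrix (ι × Fin d) (ι × Fin d) ℂ := (Nat.card H : ℂ)⁻¹ • ∑ h, Q h
  have hT : T * T = T := by
    simp only [T, smul_mul_smul_comm, Finset.sum_mul_sum]
    rw [Finset.sum_congr rfl fun a _ => show ∑ b, Q a * Q b = ∑ b, Q b from
      Fintype.sum_equiv (Equiv.mulLeft a) _ _ fun b => (map_mul Q a b).symm, Finset.sum_const,
      Finset.card_univ, ← Nat.cast_smul_eq_nsmul ℂ, smul_smul, ← Nat.card_eq_fintype_card]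
    congr 1
    have := card_ne_zero (G := H)
    field_simp
  have hMT : Commute (M ⊗ₖ (1 : Matrix (Fin d) (Fin d) ℂ)) T := by
    refine Commute.smul_right (Commute.sum_right _ _ _ fun h _ => ?_) _
    show _ * (π h ⊗ₖ _) = (π h ⊗ₖ _) * _
    rw [← Matrix.mul_kronecker_mul, ← Matrix.mul_kronecker_mul, (hc h).eq, one_mul, mul_one]
  have hgood : GoodMat (M ⊗ₖ (1 : Matrix (Fin d) (Fin d) ℂ)) := by
    rcases hM with hM | ⟨n, hn, hM⟩
    · refine Or.inl fun i j => ?_
      rw [Matrix.kroneckerMap_apply, Matrix.one_apply]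
      split_ifs
      · simpa using hM _ _
      · simpa using isIntegral_zero
    · refine Or.inr ⟨n, hn, ?_⟩
      have : ∀ k : ℕ, (M ⊗ₖ (1 : Matrix (Fin d) (Fin d) ℂ)) ^ k = (M ^ k) ⊗ₖ 1 := fun k => by
        induction k with
        | zero => simp
        | succ k ih => rw [pow_succ, ih, ← Matrix.mul_kronecker_mul, one_mul, pow_succ]
      rw [this, hM, Matrix.one_kronecker_one]
  have key := isIntegral_trace_mul_idem hgood hT hMT
  rw [show ((M ⊗ₖ (1 : Matrix (Fin d) (Fin d) ℂ)) * T).trace =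
    classInner (fun h => (M * π h).trace) ρ.character from ?_] at key
  · exact key
  rw [classInner, Matrix.mul_smul, Matrix.trace_smul, Finset.mul_sum, Matrix.trace_sum, smul_eq_mul]
  congr 1
  refine Finset.sum_congr rfl fun h _ => ?_
  show ((M ⊗ₖ 1) * (π h ⊗ₖ (R h⁻¹).transpose)).trace = _
  rw [← Matrix.mul_kronecker_mul, one_mul, Matrix.trace_kronecker, Matrix.trace_transpose, hRtr,
    IsChar.inv_eq_conj ⟨d, ρ, rfl⟩ h]

theorem IntCoef.zero : IntCoef (0 : H → ℂ) :=
  ⟨fun _ _ => rfl, fun ξ => by simp [classInner, isIntegral_zero]⟩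

theorem IntCoef.add {f g : H → ℂ} (hf : IntCoef f) (hg : IntCoef g) : IntCoef (f + g) :=
  ⟨fun a b => by simp [hf.cls a b, hg.cls a b], fun ξ => by
    rw [show classInner (f + g) (ξ : H → ℂ) = classInner f ξ + classInner g ξ by
      simp [classInner, add_mul, Finset.sum_add_distrib, mul_add]]
    exact (hf.int ξ).add (hg.int ξ)⟩

theorem IntCoef.smul {f : H → ℂ} (hf : IntCoef f) {c : ℂ} (hc : IsIntegral ℤ c) :
    IntCoef (c • f) :=
  ⟨fun a b => by simp [hf.cls a b], fun ξ => by
    rw [show classInner (c • f) (ξ : H → ℂ) = c * classInner f ξ by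
      simp only [classInner, Pi.smul_apply, smul_eq_mul, mul_assoc, ← Finset.mul_sum]; ring]
    exact hc.mul (hf.int ξ)⟩

theorem IntCoef.sum {α : Type*} (s : Finset α) (f : α → H → ℂ) (h : ∀ a ∈ s, IntCoef (f a)) :
    IntCoef (∑ a ∈ s, f a) := by
  classical
  induction s using Finset.induction_on with
  | empty => simpa using IntCoef.zero
  | insert a s ha ih =>
    rw [Finset.sum_insert ha]
    exact (h a (Finset.mem_insert_self a s)).add (ih fun b hb => h b (Finset.mem_insert_of_mem hb))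

theorem IntCoef.mul {f g : H → ℂ} (hf : IntCoef f) (hg : IntCoef g) : IntCoef (f * g) := by
  rw [classFun_expansion hf.cls, classFun_expansion hg.cls, Finset.sum_mul_sum]
  refine IntCoef.sum _ _ fun ξ _ => IntCoef.sum _ _ fun η _ => ?_
  rw [smul_mul_smul_comm]
  exact (intCoef_of_isCharacter (isCharacter_mul (IsIrr.isCharacter ξ.2) (IsIrr.isCharacter η.2))).smul
    ((hf.int ξ).mul (hg.int η))

theorem IntCoef.pow_succ {f : H → ℂ} (hf : IntCoef f) : ∀ n : ℕ, IntCoef (f ^ (n + 1))
  | 0 => by simpa using hf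
  | n + 1 => by rw [_root_.pow_succ]; exact (IntCoef.pow_succ hf n).mul hf

/-- An integral valued class function multiplied by the order of the group. -/
theorem intCoef_card_smul {f : H → ℂ} (hf : IsClassFunction H f) (hint : ∀ h, IsIntegral ℤ (f h)) :
    IntCoef ((Nat.card H : ℂ) • f) :=
  ⟨fun a b => by simp [hf a b], fun ξ => by
    rw [show classInner ((Nat.card H : ℂ) • f) (ξ : H → ℂ) =
        ∑ h, f h * conj ((ξ : H → ℂ) h) by
      simp only [classInner, Pi.smul_apply, smul_eq_mul, mul_assoc, ← Finset.mul_sum]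
      rw [← mul_assoc, inv_mul_cancel₀ (card_ne_zero (G := H)), one_mul]]
    refine IsIntegral.sum _ fun h _ => (hint h).mul ?_
    rw [← IsChar.inv_eq_conj (IsIrr.isCharacter ξ.2) h]
    exact IsChar.isIntegral (IsIrr.isCharacter ξ.2) _⟩

/-- Division by a natural valued function prime to the order of the group. -/
theorem IntCoef.of_mul {c : H → ℕ} (hc : IntCoef (fun h => (c h : ℂ)))
    (hpos : ∀ h, 0 < c h) (hcop : ∀ h, (c h).Coprime (Nat.card H)) {δ : H → ℂ}
    (hδ : IsClassFunction H δ) (hint : ∀ h, IsIntegral ℤ (δ h))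
    (hmul : IntCoef (fun h => (c h : ℂ) * δ h)) : IntCoef δ := by
  obtain ⟨n, hn⟩ : ∃ n, (Nat.card H).totient = n + 1 :=
    ⟨_, (Nat.succ_pred_eq_of_pos (Nat.totient_pos.2 Nat.card_pos)).symm⟩
  have hq : ∀ h, ∃ q : ℕ, c h ^ (n + 1) = 1 + Nat.card H * q := fun h => by
    obtain ⟨q, hq⟩ := (Nat.modEq_iff_dvd' (Nat.one_le_pow _ _ (hpos h))).1
      ((Nat.ModEq.pow_totient (hcop h)).symm)
    rw [hn] at hq
    exact ⟨q, by have := Nat.one_le_pow (n + 1) (c h) (hpos h); omega⟩
  choose q hq using hq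
  have h1 : IntCoef (fun h => (c h : ℂ) ^ (n + 1) * δ h) := by
    rcases n.eq_zero_or_pos with h0 | h0
    · simpa [h0] using hmul
    · obtain ⟨m, rfl⟩ : ∃ m, n = m + 1 := ⟨n - 1, by omega⟩
      have := (hc.pow_succ m).mul hmul
      convert this using 1
      funext h
      simp only [Pi.mul_apply, Pi.pow_apply]
      ring
  have hqc : IsClassFunction H (fun h => (q h : ℂ) * δ h) := fun a b => by
    have e : c (b * a * b⁻¹) = c a := by simpa using hc.cls a b
    have e2 : q (b * a * b⁻¹) = q a := by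
      have h3 := hq (b * a * b⁻¹)
      rw [e, hq a] at h3
      exact (Nat.eq_of_mul_eq_mul_left Nat.card_pos (Nat.add_left_cancel h3)).symm
    show (q (b * a * b⁻¹) : ℂ) * δ (b * a * b⁻¹) = (q a : ℂ) * δ a
    rw [e2, hδ a b]
  have h2 := (intCoef_card_smul hqc fun h =>
    (isIntegral_algebraMap (x := (q h : ℤ))).mul (hint h)).smul
      (isIntegral_algebraMap (x := (-1 : ℤ)))
  have h3 := h1.add h2
  convert h3 using 1
  funext h
  simp only [Pi.add_apply, Pi.smul_apply, smul_eq_mul, ← Nat.cast_pow, hq h, algebraMap_int_eq,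
    eq_intCast]
  push_cast
  ring

end Cfsg.Agent.KGVReal
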