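import Cfsg.Agent.BlockChar.KGVReal.Heis
import Cfsg.Agent.Char.DerivedPrime
import Cfsg.Agent.Char.Gallagher
import Cfsg.Agent.Char.Glauberman.Canonical
import Cfsg.Agent.Char.FeitThompsonIneq
import Cfsg.Agent.S0867

/-!
# The alternating part: the restriction of the canonical extension of a Heisenberg character
-/

namespace Cfsg.Agent.KGVReal

open Cfsg.Agent.Char
open scoped ComplexConjugate commutatorElement

universe u

variable {p : ℕ} [hp : Fact p.Prime] {H : Type u} [Group H] [Fintype H] {U : Type u}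
  [AddCommGroup U] [Module (ZMod p) U] [Finite U]

theorem exists_weil [Nontrivial U] (ρ : Representation (ZMod p) H U) (hH : ¬ p ∣ Nat.card H)
    (A : LinearMap.BilinForm (ZMod p) U) (hA : ∀ x, A x x = 0)
    (hinv : ∀ h x y, A (ρ h x) (ρ h y) = A x y) (hnd : ∀ x, (∀ y, A x y = 0) → x = 0) :
    ∃ (d : ℕ) (ω : H → ℂ), IsCharacter H ω ∧ Nat.card U = d ^ 2 ∧ ω 1 = d ∧
      (∀ h, ω h * conj (ω h) = (fixCard ρ h : ℂ)) ∧ ∀ h, ∃ n : ℤ, ω h = n := by
  classical
  have : NeZero p := ⟨hp.out.ne_zero⟩
  obtain ⟨c, hcinv, hcA⟩ := exists_cocycle ρ hH A hA hinv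
  let Z : Subgroup (Heis c) :=
    { carrier := {x : Heis c | x.u = 0}
      one_mem' := rfl
      mul_mem' := fun {a b} ha hb => show a.u + b.u = 0 by rw [ha, hb, add_zero]
      inv_mem' := fun {a} ha => show -a.u = 0 by rw [ha, neg_zero] }
  have hzc : ∀ x : Heis c, x.u = 0 → x ∈ Subgroup.center (Heis c) := fun x hx =>
    Subgroup.mem_center_iff.2 fun y => by
      simp only [Heis.mul_def, hx, add_zero, zero_add, map_zero, LinearMap.zero_apply, add_comm y.z]
  have hcenter : Subgroup.center (Heis c) = Z := by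
    refine le_antisymm (fun (x : Heis c) hx => hnd x.u fun y => ?_) fun x hx => hzc x hx
    have h1 := congrArg Heis.z (Subgroup.mem_center_iff.1 hx ⟨y, 0⟩)
    simp only [Heis.mul_def] at h1
    have h2 := hcA x.u y
    linear_combination -h2 - h1
  have hcardZ : Nat.card Z = p := by
    exact (Nat.card_congr
      ({ toFun := fun x => x.1.z
         invFun := fun a => ⟨⟨0, a⟩, rfl⟩
         left_inv := fun x => Subtype.ext (Heis.ext x.2.symm rfl)
         right_inv := fun a => rfl } : Z ≃ ZMod p)).trans (Nat.card_zmod p)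
  have hcomm : ∀ x y : Heis c, x * y = (⟨0, A x.u y.u⟩ : Heis c) * (y * x) := fun x y => by
    ext
    · simp [Heis.mul_def, add_comm]
    · simp only [Heis.mul_def, map_zero, LinearMap.zero_apply, add_zero]
      have h2 := hcA x.u y.u
      linear_combination h2
  have hmk : ∀ x y : Heis c, ⁅x, y⁆ = ⟨0, A x.u y.u⟩ := fun x y => by
    rw [commutatorElement_def, hcomm x y]
    group
  have hle : commutator (Heis c) ≤ Z := by
    rw [commutator_def, Subgroup.commutator_le]
    exact fun x _ y _ => by rw [hmk]; rfl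
  have hne : commutator (Heis c) ≠ ⊥ := fun e => by
    obtain ⟨x, hx⟩ := exists_ne (0 : U)
    refine hx (hnd x fun y => ?_)
    have h1 : ⁅(⟨x, 0⟩ : Heis c), (⟨y, 0⟩ : Heis c)⁆ ∈ commutator (Heis c) :=
      Subgroup.commutator_mem_commutator (Subgroup.mem_top _) (Subgroup.mem_top _)
    rw [e, Subgroup.mem_bot, hmk] at h1
    exact congrArg Heis.z h1
  have hQ : commutator (Heis c) = Z := by
    refine le_antisymm hle ?_
    have : Fact (Nat.card Z).Prime := ⟨hcardZ.symm ▸ hp.out⟩
    rcases Subgroup.eq_bot_or_eq_top_of_prime_card ((commutator (Heis c)).subgroupOf Z) with h | h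
    · exact absurd (by
        rwa [Subgroup.subgroupOf_eq_bot, disjoint_iff, inf_eq_left.2 hle] at h) hne
    · exact Subgroup.subgroupOf_eq_top.1 h
  have hQ' : Nat.card (commutator (Heis c)) = p := hQ ▸ hcardZ
  have hZle : commutator (Heis c) ≤ Subgroup.center (Heis c) := by rw [hQ, hcenter]
  -- the character of the Heisenberg group
  obtain ⟨⟨θ, hθ⟩, hθ1⟩ := exists_nonlinear hne
  change θ 1 ≠ 1 at hθ1
  obtain ⟨d, hd0, hd⟩ := IsIrr.degree hθ
  have hd2 : Nat.card U = d ^ 2 := by
    have h1 := center_mul_sq hp.out hZle hQ' hθ hθ1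
    rw [hcenter, hcardZ, hd, Heis.card] at h1
    have h2 : p * d ^ 2 = Nat.card U * p := by exact_mod_cast h1
    rw [mul_comm (Nat.card U)] at h2
    exact (Nat.eq_of_mul_eq_mul_left hp.out.pos h2).symm
  have hθinv : ∀ (h : H) (x : Heis c), θ (heisAct ρ hcinv h x) = θ x := fun h x => by
    by_cases hx : x.u = 0
    · congr 1
      exact Heis.ext (by simp [hx]) rfl
    · have hx' : ρ h x.u ≠ 0 := fun e => hx (by
        have := congrArg (ρ h⁻¹) e
        rwa [← Module.End.mul_apply, ← map_mul, inv_mul_cancel, map_one, Module.End.one_apply,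
          map_zero] at this)
      rw [apply_eq_zero_of_not_center hp.out hZle hQ' hθ hθ1 (hcenter ▸ hx'),
        apply_eq_zero_of_not_center hp.out hZle hQ' hθ hθ1 (hcenter ▸ hx)]
  -- the semidirect product
  let Γ := SemidirectProduct (Heis c) H (heisAct ρ hcinv)
  have : Finite Γ := Finite.of_equiv _ SemidirectProduct.equivProd.symm
  letI := Fintype.ofFinite Γ
  let ι : Heis c →* Γ := SemidirectProduct.inl
  let σH : H →* Γ := SemidirectProduct.inr
  let N : Subgroup Γ := ι.range
  have : N.Normal := by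
    rw [show N = (SemidirectProduct.rightHom : Γ →* H).ker from
      SemidirectProduct.range_inl_eq_ker_rightHom]
    infer_instance
  letI := Fintype.ofFinite N
  let e : Heis c ≃* N := MonoidHom.ofInjective (f := ι) SemidirectProduct.inl_injective
  have heι : ∀ x, (e x : Γ) = ι x := fun x => rfl
  have hNcard : Nat.card N = Nat.card (Heis c) := Nat.card_congr e.symm.toEquiv
  have hidx : N.index = Nat.card H := by
    rw [show N = (SemidirectProduct.rightHom : Γ →* H).ker from
      SemidirectProduct.range_inl_eq_ker_rightHom, Subgroup.index_ker,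
      MonoidHom.range_eq_top.2 SemidirectProduct.rightHom_surjective, Subgroup.card_top]
  let ϑ : N → ℂ := fun n => θ (e.symm n)
  have hϑ : IsIrrCharacter N ϑ := (isIrrCharacter_comp_equiv e.symm).2 hθ
  have hθcl : ∀ x y, θ (y * x * y⁻¹) = θ x := isClassFunction_of_isIrr hθ
  have hϑinv : ∀ (g : Γ) (n : N),
      ϑ ⟨g * n * g⁻¹, (inferInstance : N.Normal).conj_mem (n : Γ) n.2 g⟩ = ϑ n := by
    intro g n
    obtain ⟨x, rfl⟩ := e.surjective n
    have h1 : g * ι x * g⁻¹ = ι (g.left * heisAct ρ hcinv g.right x * g.left⁻¹) := by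
      have h3 := SemidirectProduct.inl_aut (φ := heisAct ρ hcinv) g.right x
      rw [map_inv] at h3
      conv_lhs => rw [← SemidirectProduct.inl_left_mul_inr_right g]
      simp only [ι, map_mul, map_inv]
      erw [h3]
      simp only [mul_inv_rev, mul_assoc]
    rw [show (⟨g * (e x : Γ) * g⁻¹, (inferInstance : N.Normal).conj_mem (e x : Γ) (e x).2 g⟩ : N) =
      e (g.left * heisAct ρ hcinv g.right x * g.left⁻¹) from Subtype.ext h1]
    simp only [ϑ, MulEquiv.symm_apply_apply, hθcl, hθinv]
  obtain ⟨j, hj⟩ := exists_card_eq_pow (p := p) (U := U)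
  have hcop : (Nat.card H).Coprime (Nat.card (Heis c)) := by
    rw [Heis.card, hj, ← pow_succ]
    exact (hp.out.coprime_iff_not_dvd.2 hH).symm.pow_right _
  have hcopd : N.index.Coprime (detOrder ϑ * d) := by
    rw [hidx]
    refine Nat.Coprime.mul_right (hcop.coprime_dvd_right (hNcard ▸
      Glauberman.detOrder_dvd_card (IsIrr.isCharacter hϑ))) (hcop.coprime_dvd_right ?_)
    rw [Heis.card, hd2]
    exact Dvd.intro _ (by ring : d * (d * p) = d ^ 2 * p)
  have hϑ1 : ϑ 1 = d := by simp [ϑ, hd]
  obtain ⟨χ, ⟨hχ, hres, hdet⟩, huniq⟩ := Cfsg.Agent.S0867.result N ϑ hϑ hϑinv d hϑ1 hcopd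
  have hresN : IsIrrCharacter N (fun n : N => χ n) := by
    rw [show (fun n : N => χ n) = ϑ from funext hres]; exact hϑ
  have hresι : ∀ x, χ (ι x) = θ x := fun x => by
    rw [← heι, hres]; simp [ϑ]
  refine ⟨d, fun h => χ (σH h), isCharacter_comp σH (IsIrr.isCharacter hχ), hd2, ?_,
    fun h => ?_, fun h => ?_⟩
  · show χ (σH 1) = d
    rw [map_one, ← map_one ι, hresι, hd]
  · -- absolute value
    set s := σH h with hs
    have hscomm : ∀ x : Heis c, ι x * s = s * ι x ↔ ρ h x.u = x.u := by
      intro x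
      constructor
      · intro hh
        have h1 : s * ι x * s⁻¹ = ι x := by rw [← hh, mul_inv_cancel_right]
        have h2 : heisAct ρ hcinv h x = x := SemidirectProduct.inl_injective (by
          rw [SemidirectProduct.inl_aut, map_inv]; exact h1)
        exact congrArg Heis.u h2
      · intro hh
        have h2 : heisAct ρ hcinv h x = x := Heis.ext hh rfl
        have h1 : s * ι x * s⁻¹ = ι x := by
          show σH h * ι x * (σH h)⁻¹ = ι x
          have h3 := SemidirectProduct.inl_aut (φ := heisAct ρ hcinv) h x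
          rw [h2, map_inv] at h3
          exact h3.symm
        rw [mul_inv_eq_iff_eq_mul] at h1
        exact h1.symm
    let C : Subgroup Γ := N ⊓ Subgroup.centralizer ({s} : Set Γ)
    letI := Fintype.ofFinite C
    have hmem : ∀ g : Γ, g ∈ C ↔ g ∈ N ∧ g * s = s * g := fun g =>
      and_congr_right fun _ => Subgroup.mem_centralizer_singleton_iff
    let eC : {x : Heis c // ρ h x.u = x.u} ≃ C := Equiv.ofBijective
      (fun x => ⟨ι x.1, (hmem _).2 ⟨⟨x.1, rfl⟩, (hscomm x.1).2 x.2⟩⟩)
      ⟨fun a b e => Subtype.ext (SemidirectProduct.inl_injective (congrArg Subtype.val e)),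
        fun g => by
          obtain ⟨⟨x, hx⟩, hg⟩ := (hmem g.1).1 g.2
          exact ⟨⟨x, (hscomm x).1 (by rw [hx]; exact hg)⟩, Subtype.ext hx⟩⟩
    have hCcard : Nat.card C = fixCard ρ h * p := by
      rw [← Nat.card_congr eC, fixCard]
      conv_rhs => arg 2; rw [← Nat.card_zmod p]
      rw [← Nat.card_prod]
      exact Nat.card_congr
        { toFun := fun x => (⟨x.1.u, x.2⟩, x.1.z)
          invFun := fun x => ⟨⟨x.1.1, x.2⟩, x.1.2⟩
          left_inv := fun x => rfl
          right_inv := fun x => rfl }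
    let f : Γ → ℂ := fun g => χ g * conj (χ g)
    have hf : IsClassFunction Γ f := fun a b => by simp [f, isClassFunction_of_isIrr hχ a b]
    have hord : (Nat.card N).Coprime (orderOf s) := by
      rw [hNcard]
      exact hcop.symm.coprime_dvd_right ((orderOf_map_dvd σH h).trans (orderOf_dvd_natCard h))
    have hsum := Glauberman.sum_coset_of (G := N) (C := C) (s := s) inferInstance hord hmem hf
    have havg := avg_normSq_eq_one N hχ hresN s
    rw [inv_mul_eq_iff_eq_mul₀ (card_ne_zero (G := N)), mul_one] at havg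
    change ∑ n : N, f ((n : Γ) * s) = _ at havg
    rw [havg, mul_comm] at hsum
    have hsum' : ∑ g : C, f ((g : Γ) * s) = Nat.card C :=
      (mul_left_cancel₀ (card_ne_zero (G := N)) hsum).symm
    letI := Fintype.ofFinite {x : Heis c // ρ h x.u = x.u}
    rw [← eC.sum_comp] at hsum'
    change ∑ x : {x : Heis c // ρ h x.u = x.u}, f (ι x.1 * s) = _ at hsum'
    have hscal : ∀ z : Heis c, z.u = 0 →
        ∃ a : ℂ, ‖a‖ = 1 ∧ ∀ g, χ (ι z * g) = a * χ g := fun z hz => by
      refine exists_scalar_of_center hχ (Subgroup.mem_center_iff.2 fun g => ?_)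
      obtain ⟨x, k, rfl⟩ : ∃ x k, ι x * σH k = g :=
        ⟨_, _, SemidirectProduct.inl_left_mul_inr_right g⟩
      have h1 : σH k * ι z = ι z * σH k := by
        have h2 : heisAct ρ hcinv k z = z := Heis.ext (by simp [hz]) rfl
        have h3 := SemidirectProduct.inl_aut (φ := heisAct ρ hcinv) k z
        rw [h2, map_inv] at h3
        exact mul_inv_eq_iff_eq_mul.1 h3.symm
      rw [mul_assoc, h1, ← mul_assoc, ← mul_assoc, ← map_mul, ← map_mul,
        Subgroup.mem_center_iff.1 (hzc z hz) x]
    have hfz : ∀ x : {x : Heis c // ρ h x.u = x.u}, f (ι x.1 * s) =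
        if x.1.u = 0 then χ s * conj (χ s) else 0 := by
      rintro ⟨x, hx⟩
      split_ifs with hu
      · obtain ⟨a, ha, hga⟩ := hscal x hu
        show χ (ι x * s) * conj (χ (ι x * s)) = _
        rw [hga, map_mul, mul_mul_mul_comm, Complex.mul_conj', ha]
        simp
      · -- move by a fixed vector
        obtain ⟨w₀, hw₀⟩ : ∃ w, A w x.u ≠ 0 := by
          by_contra! hh
          exact hu (hnd _ fun y => by
            have := hA (y + x.u)
            simp only [map_add, LinearMap.add_apply, hA, zero_add, add_zero] at this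
            linear_combination this - hh y)
        set m := Nat.card H with hm
        set w := ∑ k ∈ Finset.range m, ρ (h ^ k) w₀ with hw
        have hwfix : ρ h w = w := by
          rw [hw, map_sum]
          simp only [← Module.End.mul_apply, ← map_mul, ← pow_succ']
          have h1 := Finset.sum_range_succ' (fun k => ρ (h ^ k) w₀) m
          have h2 := Finset.sum_range_succ (fun k => ρ (h ^ k) w₀) m
          rw [h1, hm, pow_card_eq_one', pow_zero] at h2
          exact add_right_cancel h2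
        have hAw : A w x.u ≠ 0 := by
          have hk : ∀ k : ℕ, ρ (h ^ k) x.u = x.u := fun k => by
            induction k with
            | zero => simp
            | succ k ih => rw [pow_succ, map_mul, Module.End.mul_apply, hx, ih]
          rw [hw, map_sum, LinearMap.sum_apply, Finset.sum_congr rfl fun k _ => show
            A (ρ (h ^ k) w₀) x.u = A w₀ x.u by rw [← hinv (h ^ k) w₀ x.u, hk],
            Finset.sum_const, Finset.card_range, nsmul_eq_mul]
          exact mul_ne_zero (fun e => hH ((ZMod.natCast_eq_zero_iff _ _).1 e)) hw₀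
        set z : Heis c := ⟨0, A w x.u⟩ with hz
        obtain ⟨a, -, hga⟩ := hscal z rfl
        have ha1 : a ≠ 1 := fun e => by
          have h1 := hga 1
          rw [e, one_mul, mul_one, hresι, ← map_one ι, hresι] at h1
          exact apply_ne_of_nonlinear hp.out hQ' hθ hθ1 (t := z) (hQ ▸ rfl)
            (fun e2 => hAw (congrArg Heis.z e2)) h1
        have h1 : ι ⟨w, 0⟩ * (ι x * s) * (ι ⟨w, 0⟩)⁻¹ = ι z * (ι x * s) := by
          have h2 : ι (⟨w, 0⟩ : Heis c) * s = s * ι ⟨w, 0⟩ := (hscomm _).2 hwfix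
          rw [← mul_assoc (ι ⟨w, 0⟩) (ι x) s, ← map_mul, hcomm ⟨w, 0⟩ x, ← hz, map_mul, map_mul,
            mul_assoc (ι z), mul_assoc (ι x), h2, ← mul_assoc (ι x) s, ← mul_assoc (ι z),
            mul_inv_cancel_right]
        have h3 : χ (ι x * s) = 0 := by
          have h4 := isClassFunction_of_isIrr hχ (ι x * s) (ι ⟨w, 0⟩)
          rw [h1, hga] at h4
          exact (mul_eq_zero.1 (show (a - 1) * χ (ι x * s) = 0 by rw [sub_mul, h4]; ring)).resolve_left
            (sub_ne_zero.2 ha1)
        show χ (ι x * s) * conj (χ (ι x * s)) = 0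
        rw [h3, zero_mul]
    rw [Finset.sum_congr rfl fun x _ => hfz x, ← Finset.sum_filter, Finset.sum_const,
      nsmul_eq_mul, hCcard] at hsum'
    have hfcard : (Finset.univ.filter fun x : {x : Heis c // ρ h x.u = x.u} => x.1.u = 0).card = p := by
      rw [← Fintype.card_subtype, ← Nat.card_eq_fintype_card]
      refine (Nat.card_congr ?_).trans hcardZ
      exact
        { toFun := fun x => ⟨x.1.1, x.2⟩
          invFun := fun x => ⟨⟨x.1, by rw [show x.1.u = 0 from x.2, map_zero]⟩, x.2⟩
          left_inv := fun x => rfl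
          right_inv := fun x => rfl }
    rw [hfcard, Nat.cast_mul, mul_comm ((fixCard ρ h : ℂ))] at hsum'
    exact mul_left_cancel₀ (Nat.cast_ne_zero.2 hp.out.ne_zero) hsum'
  · -- rationality
    set ω : H → ℂ := fun h => χ (σH h) with hω
    have hωc : IsCharacter H ω := isCharacter_comp σH (IsIrr.isCharacter hχ)
    have hrat : ∃ q : ℚ, ω h = q := IsChar.exists_rat hωc h fun k hk => by
      obtain ⟨k', hk1, hk2⟩ := Nat.chineseRemainder hcop k 1
      have hcop' : k'.Coprime (Nat.card Γ) := by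
        rw [SemidirectProduct.card]
        refine Nat.Coprime.mul_right ?_ ?_
        · rw [Nat.Coprime, (hk2.gcd_eq)]; simp
        · rw [Nat.Coprime, (hk1.gcd_eq)]; exact hk
      obtain ⟨σ, hσ⟩ := exists_galois_pow (G := Γ) k' hcop'
      have h1 : (fun g => σ (χ g)) = χ := by
        refine huniq _ (isIrr_map σ hχ) (fun n => ?_) ?_
        · rw [hσ (IsIrr.isCharacter hχ), ← hres n]
          congr 1
          have hn : (n : Γ) ^ Nat.card (Heis c) = 1 := by
            have h0 : n ^ Nat.card N = 1 := pow_card_eq_one'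
            rw [hNcard] at h0
            exact congrArg Subtype.val h0
          exact (pow_eq_pow_of_modEq hk2 hn).trans (pow_one _)
        · rw [Glauberman.detOrder_map σ (IsIrr.isCharacter hχ), hdet]
          exact hcopd.coprime_dvd_right (dvd_mul_right _ _)
      show χ (σH (h ^ k)) = χ (σH h)
      rw [← pow_eq_pow_of_modEq hk1 (pow_card_eq_one' (x := h)), map_pow,
        ← hσ (IsIrr.isCharacter hχ)]
      exact congrFun h1 _
    obtain ⟨q, hq⟩ := hrat
    obtain ⟨n, hn⟩ := exists_int_of_isIntegral_rat (q := q) (hq ▸ IsChar.isIntegral hωc h)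
    exact ⟨n, by show ω h = _; rw [hq, ← hn]; simp⟩

/-- The alternating part. -/
theorem exists_delta_alt (ρ : Representation (ZMod p) H U) (hH : ¬ p ∣ Nat.card H) {ζ : ℂ}
    (hζ : IsPrimitiveRoot ζ p) (L : ℕ) (A : LinearMap.BilinForm (ZMod p) U) (hA : ∀ x, A x x = 0)
    (hinv : ∀ h x y, A (ρ h x) (ρ h y) = A x y) (hnd : ∀ x, (∀ y, A x y = 0) → x = 0) :
    ∃ δ, Delta L ζ (fixCard ρ) (Nat.card U) δ := by
  rcases subsingleton_or_nontrivial U with hU | hU
  · exact ⟨_, delta_one L ζ fun h => Nat.card_congr (Equiv.subtypeUnivEquiv fun x =>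
      Subsingleton.elim _ _)⟩
  obtain ⟨d, ω, hω, hd, hω1, hωn, hωi⟩ := exists_weil ρ hH A hA hinv hnd
  choose n hn using hωi
  have hn2 : ∀ h, n h ^ 2 = (fixCard ρ h : ℤ) := fun h => by
    have h1 := hωn h
    rw [hn, map_intCast] at h1
    rw [sq]
    exact_mod_cast h1
  have hndvd : ∀ h, n h ∣ (d : ℤ) := fun h => by
    refine (Int.pow_dvd_pow_iff two_ne_zero).1 ?_
    rw [hn2, show ((d : ℤ) ^ 2) = ((Nat.card U : ℕ) : ℤ) by rw [hd]; push_cast; rfl]
    exact Int.natCast_dvd_natCast.2 (fixCard_dvd ρ h)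
  choose m hm using hndvd
  have hn0 : ∀ h, n h ≠ 0 := fun h e => by
    have := hn2 h
    rw [e] at this
    have := fixCard_pos ρ h
    simp at *
    omega
  have hmul : ∀ h, (fixCard ρ h : ℂ) * (m h : ℂ) = (d : ℂ) * ω h := fun h => by
    have h1 : (fixCard ρ h : ℂ) = (n h : ℂ) ^ 2 := by exact_mod_cast (hn2 h).symm
    have h2 : (d : ℂ) = (n h : ℂ) * (m h : ℂ) := by exact_mod_cast hm h
    rw [h1, h2, hn]
    ring
  have hm2 : ∀ h, (m h) ^ 2 * (fixCard ρ h : ℤ) = (Nat.card U : ℤ) := fun h => by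
    rw [← hn2, hd, Nat.cast_pow, hm h]
    ring
  refine ⟨fun h => (m h : ℂ), ⟨IntCoef.of_mul (intCoef_fixCard ρ) (fixCard_pos ρ)
    (fixCard_coprime ρ hH) (fun a b => ?_) (fun h => isIntegral_algebraMap) ?_,
    fun h => intCast_mem _ _, fun h => isIntegral_algebraMap, fun h => ?_, ?_, fun h hne => ?_⟩⟩
  · have h1 := hmul (b * a * b⁻¹)
    rw [IsGen.isClassFunction (isGeneralized_of_isCharacter hω) a b,
      show (fixCard ρ (b * a * b⁻¹) : ℂ) = fixCard ρ a from (intCoef_fixCard ρ).cls a b, ← hmul a] at h1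
    exact mul_left_cancel₀ (Nat.cast_ne_zero.2 (fixCard_pos ρ a).ne') h1
  · have h1 := (intCoef_of_isCharacter hω).smul (isIntegral_algebraMap (x := (d : ℤ)))
    convert h1 using 1
    funext h
    rw [hmul]
    simp
  · rw [map_intCast, ← sq]
    exact_mod_cast hm2 h
  · have h1 := hmul 1
    rw [hω1, fixCard_one, hd, Nat.cast_pow, ← sq] at h1
    exact (mul_eq_left₀ (pow_ne_zero 2 (Nat.cast_ne_zero.2 fun e => by
      rw [e] at hd; simp at hd; exact Nat.card_pos.ne' hd))).1 h1
  · obtain ⟨j, hj⟩ := exists_card_eq_pow (p := p) (U := U)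
    have hdvd : (p : ℤ) ∣ m h := by
      have hp' : Prime (p : ℤ) := Nat.prime_iff_prime_int.1 hp.out
      refine hp'.dvd_of_dvd_pow (n := 2) ?_
      obtain ⟨i, hi, hci⟩ := (Nat.dvd_prime_pow hp.out).1 (hj ▸ fixCard_dvd ρ h)
      have hlt : i < j := lt_of_le_of_ne hi fun e => hne (by rw [hci, e, hj])
      obtain ⟨t, ht⟩ : ∃ t, j = i + (t + 1) := ⟨j - i - 1, by omega⟩
      refine Dvd.intro ((p : ℤ) ^ t) ?_
      refine (mul_left_injective₀ (pow_ne_zero i (Int.natCast_ne_zero.2 hp.out.ne_zero))) ?_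
      show (p : ℤ) * (p : ℤ) ^ t * (p : ℤ) ^ i = m h ^ 2 * (p : ℤ) ^ i
      have := hm2 h
      rw [hci, hj] at this
      push_cast at this
      rw [this, ht]
      ring
    obtain ⟨e, he⟩ := hdvd
    obtain ⟨b, hb, hbe⟩ := natCast_p_eq_mul hζ
    exact ⟨b * (e : ℂ), hb.mul isIntegral_algebraMap, by
      show (m h : ℂ) = _
      rw [he, Int.cast_mul, Int.cast_natCast, hbe]; ring⟩

end Cfsg.Agent.KGVReal
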