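import Cfsg.Agent.BlockChar.KGVReal.Gauss
import Cfsg.Agent.BlockChar.KGVReal.Weil
import Cfsg.Agent.SelfDual.Main
import Cfsg.Agent.S0169
import Cfsg.Agent.KGVAbelian.Main

/-!
# The real vector criterion for `k(GV) ≤ |V|`
-/

namespace Cfsg.Agent.KGVReal

open Cfsg.Agent.Char Module Subgroup
open scoped ComplexConjugate

universe u

section

variable {p : ℕ} [hp : Fact p.Prime]

theorem exists_delta {H : Type u} [Group H] [Fintype H] {U : Type u} [AddCommGroup U]
    [Module (ZMod p) U] [Finite U] (ρ : Representation (ZMod p) H U) (hH : ¬ p ∣ Nat.card H)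
    {ζ : ℂ} (hζ : IsPrimitiveRoot ζ p) {L : ℕ} (hpL : p ∣ L)
    (B : LinearMap.BilinForm (ZMod p) U) (hinv : ∀ h x y, B (ρ h x) (ρ h y) = B x y)
    (hnd : ∀ x, (∀ y, B x y = 0) → x = 0) :
    ∃ δ, Delta L ζ (fixCard ρ) (Nat.card U) δ := by
  classical
  have hn : (Nat.card H : ZMod p) ≠ 0 := fun e => hH ((ZMod.natCast_eq_zero_iff _ _).1 e)
  obtain ⟨U₁, U₂, hU, h₁, h₂, ⟨A, hA, hAi, hAn⟩, ⟨S, hS, hSi, hSn⟩, -⟩ :=
    SelfDual.decomp p hn _ U ρ B rfl
      (LinearMap.BilinForm.Nondegenerate.ofSeparatingLeft hnd) hinv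
  let ρ₁ : Representation (ZMod p) H U₁ :=
    { toFun := fun g => (ρ g).restrict (h₁ g)
      map_one' := LinearMap.ext fun x => Subtype.ext (by simp)
      map_mul' := fun a b => LinearMap.ext fun x => Subtype.ext (by simp) }
  let ρ₂ : Representation (ZMod p) H U₂ :=
    { toFun := fun g => (ρ g).restrict (h₂ g)
      map_one' := LinearMap.ext fun x => Subtype.ext (by simp)
      map_mul' := fun a b => LinearMap.ext fun x => Subtype.ext (by simp) }
  obtain ⟨δ₁, hδ₁⟩ := exists_delta_alt ρ₁ hH hζ L (A.compl₁₂ U₁.subtype U₁.subtype)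
    (fun x => hA x) (fun h x y => hAi h x x.2 y y.2)
    (fun x hx => Subtype.ext (hAn x x.2 fun y hy => hx ⟨y, hy⟩))
  obtain ⟨δ₂, hδ₂⟩ := exists_delta_symm ρ₂ hH hζ hpL (S.compl₁₂ U₂.subtype U₂.subtype)
    (fun x y => hS x y) (fun h x y => hSi h x x.2 y y.2)
    (fun x hx => Subtype.ext (hSn x x.2 fun y hy => hx ⟨y, hy⟩))
  refine ⟨δ₁ * δ₂, ?_⟩
  have h := hδ₁.mul hδ₂
  rwa [show (fun g => fixCard ρ₁ g * fixCard ρ₂ g) = fixCard ρ from funext fun g =>
      (fixCard_prod ρ hU ρ₁ ρ₂ (fun _ _ => rfl) (fun _ _ => rfl) g).symm,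
    ← Nat.card_prod, Nat.card_congr (Submodule.prodEquivOfIsCompl U₁ U₂ hU).toEquiv] at h

theorem card_mul_fix_le {H : Type*} [Group H] {W : Type*} [AddCommGroup W] [Module (ZMod p) W]
    [Finite W] (ρ : Representation (ZMod p) H W) (U : Submodule (ZMod p) W)
    (ρU : Representation (ZMod p) H U) (e : ∀ g (x : U), (ρU g x : W) = ρ g x) (g : H) :
    Nat.card U * fixCard ρ g ≤ Nat.card W * fixCard ρU g := by
  let φ : W →+ W := (ρ g).toAddMonoidHom - AddMonoidHom.id W
  let φU : U →+ W := φ.comp U.subtype.toAddMonoidHom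
  have key : ∀ {A : Type _} [AddCommGroup A] [Finite A] (f : A →+ W),
      Nat.card A = Nat.card f.range * Nat.card f.ker := fun f => by
    rw [AddSubgroup.card_eq_card_quotient_mul_card_addSubgroup f.ker,
      Nat.card_congr (QuotientAddGroup.quotientKerEquivRange f).toEquiv]
  have hk : Nat.card φ.ker = fixCard ρ g := by
    refine Nat.card_congr (Equiv.subtypeEquivRight fun x => ?_)
    show ρ g x - x = 0 ↔ _
    exact sub_eq_zero
  have hkU : Nat.card φU.ker = fixCard ρU g := by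
    refine Nat.card_congr (Equiv.subtypeEquivRight fun x => ?_)
    show ρ g (x : W) - x = 0 ↔ _
    rw [sub_eq_zero, ← e]
    exact Subtype.ext_iff.symm
  have hr : φU.range ≤ φ.range := by
    rintro _ ⟨x, rfl⟩
    exact ⟨x, rfl⟩
  rw [key φ, key φU, hk, hkU]
  calc Nat.card φU.range * fixCard ρU g * fixCard ρ g
      ≤ Nat.card φ.range * fixCard ρU g * fixCard ρ g := by
        refine Nat.mul_le_mul_right _ (Nat.mul_le_mul_right _ ?_)
        exact Nat.card_le_card_of_injective _ (AddSubgroup.inclusion_injective hr)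
    _ = _ := by ring

theorem fixCard_pow {H : Type*} [Group H] [Finite H] {W : Type*} [AddCommGroup W]
    [Module (ZMod p) W] (ρ : Representation (ZMod p) H W) (g : H) {k : ℕ}
    (hk : k.Coprime (Nat.card H)) : fixCard ρ (g ^ k) = fixCard ρ g := by
  have hmono : ∀ (a : H) (n : ℕ) (x : W), ρ a x = x → ρ (a ^ n) x = x := fun a n x hx => by
    induction n with
    | zero => simp
    | succ n ih => rw [pow_succ, map_mul, Module.End.mul_apply, hx, ih]
  obtain ⟨m, hm⟩ := exists_pow_eq_self_of_coprime (x := g) (n := k)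
    (hk.coprime_dvd_right (orderOf_dvd_natCard g))
  exact Nat.card_congr (Equiv.subtypeEquivRight fun x =>
    ⟨fun hx => hm ▸ hmono _ m x hx, hmono g k x⟩)

end

/-- A character of degree prime to `p` does not vanish modulo `1 - ζ` on elements of order `p`. -/
theorem char_sub_one_dvd {p : ℕ} [Fact p.Prime] {ζ : ℂ} (hζ : IsPrimitiveRoot ζ p) {G : Type u}
    [Group G] [Finite G] {χ : G → ℂ} (hχ : IsCharacter G χ) {v : G} (hv : v ^ p = 1) :
    ∃ b, IsIntegral ℤ b ∧ χ 1 - χ v = (1 - ζ) * b := by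
  obtain ⟨n, ρ, rfl⟩ := hχ
  obtain ⟨μ, b, -, hμ, hv'⟩ := exists_eigenbasis ρ v
  have : NeZero p := ⟨(Fact.out : p.Prime).ne_zero⟩
  have h : ∀ i, ∃ e, IsIntegral ℤ e ∧ 1 - μ i = (1 - ζ) * e := fun i => by
    obtain ⟨c, hc⟩ := orderOf_dvd_of_pow_eq_one hv
    obtain ⟨j, -, hj⟩ := hζ.eq_pow_of_pow_eq_one (show μ i ^ p = 1 by rw [hc, pow_mul, hμ, one_pow])
    rw [← hj]
    exact one_sub_pow_dvd hζ j
  choose e he he' using h
  refine ⟨∑ i, e i, IsIntegral.sum _ fun i _ => he i, ?_⟩
  rw [Representation.char_one, hv', Finset.mul_sum]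
  simp only [← he', Finset.sum_sub_distrib, Finset.sum_const, Finset.card_univ, nsmul_one,
    Fintype.card_fin]

/-- The real vector criterion. -/
theorem card_conjClasses_le {X : Type u} [Group X] [Finite X] (p : ℕ) [hp : Fact p.Prime]
    (V : Subgroup X) [V.Normal] (hVexp : ∀ v ∈ V, v ^ p = 1) (hidx : ¬ p ∣ V.index)
    (hself : centralizer (V : Set X) = V) (G : Subgroup X) (hGV : IsComplement' V G) (v : X)
    (hv : v ∈ V) (U : Subgroup X) (hUV : U ≤ V)
    (hUinv : ∀ h ∈ G, h * v * h⁻¹ = v → ∀ u ∈ U, h * u * h⁻¹ ∈ U)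
    (hUfaith : ∀ h ∈ G, h * v * h⁻¹ = v → (∀ u ∈ U, h * u * h⁻¹ = u) → h = 1)
    (β : X → X → ZMod p) (hβl : ∀ u ∈ U, ∀ u' ∈ U, ∀ w ∈ U, β (u * u') w = β u w + β u' w)
    (hβr : ∀ u ∈ U, ∀ w ∈ U, ∀ w' ∈ U, β u (w * w') = β u w + β u w')
    (hβinv : ∀ h ∈ G, h * v * h⁻¹ = v → ∀ u ∈ U, ∀ w ∈ U,
      β (h * u * h⁻¹) (h * w * h⁻¹) = β u w)
    (hβnd : ∀ u ∈ U, (∀ w ∈ U, β u w = 0) → u = 1) :
    Nat.card (ConjClasses X) ≤ Nat.card V := by
  classical
  letI := Fintype.ofFinite X
  set H : Subgroup X := G ⊓ centralizer ({v} : Set X) with hH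
  letI fH : Fintype H := Fintype.ofFinite H
  have hVc : ∀ a ∈ V, ∀ b ∈ V, a * b = b * a := fun a ha b hb => by
    rw [← hself] at hb
    exact (mem_centralizer_iff.1 hb a ha)
  letI iV : CommGroup V :=
    { (inferInstance : Group V) with mul_comm := fun a b => Subtype.ext (hVc a a.2 b b.2) }
  have hn0 : ∀ x : Additive V, p • x = 0 := fun x => Additive.toMul.injective
    (Subtype.ext ((SubmonoidClass.coe_pow (Additive.toMul x) p).trans
      (hVexp _ (Additive.toMul x).2)))
  letI := AddCommGroup.zmodModule (n := p) hn0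
  have : Finite (Additive V) := Finite.of_equiv V Additive.ofMul
  have hcG : Nat.card G = V.index := hGV.symm.index_eq_card.symm
  have hpH : ¬ p ∣ Nat.card H := fun hd => hidx (by
    rw [← hcG]; exact hd.trans (card_dvd_of_le inf_le_left))
  have hHv : ∀ h : H, (h : X) * v * (h : X)⁻¹ = v := fun h =>
    mul_inv_eq_iff_eq_mul.2 (mem_centralizer_singleton_iff.1 h.2.2)
  -- the action
  let act : H → Additive V →+ Additive V := fun h =>
    (MulAut.conjNormal (h : X)).toMonoidHom.toAdditive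
  let ρ : Representation (ZMod p) H (Additive V) :=
    { toFun := fun h => AddMonoidHom.toZModLinearMap p (act h)
      map_one' := LinearMap.ext fun x => by
        apply Additive.toMul.injective
        show MulAut.conjNormal ((1 : H) : X) (Additive.toMul x : V) = Additive.toMul x
        simp
      map_mul' := fun a b => LinearMap.ext fun x => by
        apply Additive.toMul.injective
        show MulAut.conjNormal ((a * b : H) : X) (Additive.toMul x : V) =
          MulAut.conjNormal (a : X) (MulAut.conjNormal (b : X) (Additive.toMul x : V))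
        rw [Subgroup.coe_mul, map_mul]
        rfl }
  let val : Additive V → X := fun x => ((Additive.toMul x : V) : X)
  have hρ : ∀ (h : H) x, val (ρ h x) = h * val x * (h : X)⁻¹ := fun h x =>
    MulAut.conjNormal_apply (h : X) (Additive.toMul x)
  let Us : Submodule (ZMod p) (Additive V) := AddSubgroup.toZModSubmodule p
    { carrier := {x | val x ∈ U}
      add_mem' := fun {a b} ha hb => show val a * val b ∈ U from U.mul_mem ha hb
      zero_mem' := U.one_mem
      neg_mem' := fun {a} ha => show (val a)⁻¹ ∈ U from U.inv_mem ha }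
  let ρU : Representation (ZMod p) H Us :=
    { toFun := fun h => (ρ h).restrict (p := Us) (q := Us) fun x hx => show val (ρ h x) ∈ U by
        rw [hρ]; exact hUinv _ h.2.1 (hHv h) _ hx
      map_one' := LinearMap.ext fun x => Subtype.ext (by simp)
      map_mul' := fun a b => LinearMap.ext fun x => Subtype.ext (by
        show ρ (a * b) (x : Additive V) = ρ a (ρ b x)
        rw [map_mul]; rfl) }
  have hval : ∀ (x : Us), val (x : Additive V) ∈ U := fun x => x.2
  let B : LinearMap.BilinForm (ZMod p) Us := AddMonoidHom.toZModLinearMap p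
    (AddMonoidHom.mk' (fun x : Us => AddMonoidHom.toZModLinearMap p
      (AddMonoidHom.mk' (fun y : Us => β (val x) (val y))
        fun y y' => hβr _ (hval x) _ (hval y) _ (hval y')))
      fun x x' => LinearMap.ext fun y => hβl _ (hval x) _ (hval x') _ (hval y))
  have hB : ∀ x y, B x y = β (val x) (val y) := fun x y => rfl
  have hBinv : ∀ h x y, B (ρU h x) (ρU h y) = B x y := fun h x y => by
    rw [hB, hB]
    show β (val (ρ h x)) (val (ρ h y)) = _
    rw [hρ, hρ]
    exact hβinv _ h.2.1 (hHv h) _ (hval x) _ (hval y)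
  have hBnd : ∀ x, (∀ y, B x y = 0) → x = 0 := fun x hx =>
    Subtype.ext (Additive.toMul.injective (Subtype.ext (hβnd _ (hval x) fun w hw =>
      hx ⟨Additive.ofMul ⟨w, hUV hw⟩, hw⟩)))
  -- the roots of unity
  set L := p * Nat.card H with hL
  have : NeZero L := ⟨Nat.mul_ne_zero hp.out.ne_zero Nat.card_pos.ne'⟩
  set ζ : ℂ := Complex.exp (2 * Real.pi * Complex.I / p) with hζd
  have hζ : IsPrimitiveRoot ζ p := Complex.isPrimitiveRoot_exp p hp.out.ne_zero
  have hk : ∀ k : (ZMod L)ˣ, (k : ZMod L).val.Coprime L := fun k => ZMod.val_coe_unit_coprime k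
  choose s hs using fun k : (ZMod L)ˣ => exists_galois L _ (NeZero.ne L) (hk k)
  obtain ⟨δ, hδ⟩ := exists_delta ρU hpH hζ (dvd_mul_right p _ : p ∣ L) B hBinv hBnd
  set N := Nat.card Us with hN
  set c := fixCard ρU with hc
  have hfaith : ∀ h : H, h ≠ 1 → c h ≠ N := by
    intro h h1 e
    refine h1 (Subtype.ext (hUfaith _ h.2.1 (hHv h) fun u hu => ?_))
    have hsurj : ∀ x : Us, ρU h x = x := fun x => by
      have hinj : Function.Bijective (Subtype.val : {y : Us // ρU h y = y} → Us) :=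
        (Nat.bijective_iff_injective_and_card _).2 ⟨Subtype.val_injective, e⟩
      obtain ⟨y, rfl⟩ := hinj.2 x
      exact y.2
    have h2 := congrArg (fun y : Us => val (y : Additive V))
      (hsurj ⟨Additive.ofMul ⟨u, hUV hu⟩, hu⟩)
    exact (hρ h (Additive.ofMul ⟨u, hUV hu⟩)).symm.trans h2
  -- the class functions
  have hvH : ∀ h : H, Commute v (h : X) := fun h =>
    (mem_centralizer_singleton_iff.1 h.2.2).symm
  have hvhL : ∀ h : H, orderOf (v * (h : X)) ∣ L := fun h => by
    refine orderOf_dvd_of_pow_eq_one ?_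
    rw [(hvH h).mul_pow, hL, pow_mul, hVexp v hv, one_pow, one_mul, mul_comm, pow_mul,
      ← SubmonoidClass.coe_pow h, pow_card_eq_one', Subgroup.coe_one, one_pow]
  set φ : IrrCharacter X → H → ℂ := fun χ h => (χ : X → ℂ) (v * h) with hφ
  have hφi : ∀ χ, IntCoef (φ χ) := by
    intro χ
    obtain ⟨n, R, -, hR⟩ := χ.2
    let e : Module.End ℂ (Fin n → ℂ) ≃ₐ[ℂ] Matrix (Fin n) (Fin n) ℂ := LinearMap.toMatrixAlgEquiv'
    let R' : X →* Matrix (Fin n) (Fin n) ℂ := e.toRingEquiv.toMonoidHom.comp R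
    have h1 := intCoef_trace (R'.comp H.subtype) (M := R' v)
      (Or.inr ⟨p, hp.out.ne_zero, by rw [← map_pow, hVexp v hv, map_one]⟩)
      fun h => (hvH h).map R'
    convert h1 using 1
    funext h
    show (χ : X → ℂ) (v * h) = (R' v * R' h).trace
    rw [← map_mul, ← hR]
    show LinearMap.trace ℂ _ (R (v * h)) = (LinearMap.toMatrix' (R (v * h))).trace
    rw [LinearMap.trace_eq_matrix_trace ℂ (Pi.basisFun ℂ (Fin n)), LinearMap.toMatrix_eq_toMatrix']
  have hφf : ∀ χ h, φ χ h ∈ cycField L := by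
    intro χ h
    let π : Multiplicative (ZMod p) × H →* X :=
      (KGVAbelian.powHom v (hVexp v hv)).noncommCoprod H.subtype fun a h => (hvH h).pow_left _
    have h1 := IsChar.mem_cycField (isCharacter_comp π (IsIrr.isCharacter χ.2))
      (Multiplicative.ofAdd (1 : ZMod p), h)
    rw [Nat.card_prod, Nat.card_congr Multiplicative.toAdd, Nat.card_zmod] at h1
    have e : π (Multiplicative.ofAdd (1 : ZMod p), h) = v * h := by
      show v ^ (1 : ZMod p).val * (h : X) = _
      rw [ZMod.val_one, pow_one]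
    rw [e] at h1
    exact h1
  have hne : ∀ χ (ξ : IrrCharacter H), classInner (φ χ * δ) (ξ : H → ℂ) ≠ 0 := by
    intro χ ξ h0
    obtain ⟨d, hd0, hd⟩ := IsIrr.degree χ.2
    obtain ⟨d', hd0', hd'⟩ := IsIrr.degree ξ.2
    have hpd : ¬ p ∣ d := fun hdd => hidx (hdd.trans (by
      obtain ⟨n, r, hr, hrc⟩ := χ.2
      have := hr
      have h2 := Cfsg.Agent.S0169.result r V hVc
      rw [Module.finrank_fin_fun] at h2
      have : (n : ℂ) = d := by rw [← hd, ← hrc]; simp
      exact (Nat.cast_injective this) ▸ h2))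
    have hpd' : ¬ p ∣ d' := fun hdd => hpH (hdd.trans (IsIrr.degree_dvd_card ξ.2 hd'))
    rw [classInner, mul_eq_zero, or_iff_right (inv_ne_zero card_ne_zero),
      ← Finset.add_sum_erase _ _ (Finset.mem_univ (1 : H))] at h0
    have hb : ∀ h ∈ Finset.univ.erase (1 : H), ∃ b, IsIntegral ℤ b ∧
        (φ χ * δ) h * conj ((ξ : H → ℂ) h) = (1 - ζ) * b := by
      intro h hh
      obtain ⟨b, hb, he⟩ := hδ.div h (hfaith h (Finset.ne_of_mem_erase hh))
      refine ⟨φ χ h * b * conj ((ξ : H → ℂ) h), ((IsChar.isIntegral (IsIrr.isCharacter χ.2) _).mul hb).mul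
        ?_, by rw [Pi.mul_apply, he]; ring⟩
      rw [← IsChar.inv_eq_conj (IsIrr.isCharacter ξ.2)]
      exact IsChar.isIntegral (IsIrr.isCharacter ξ.2) _
    choose b hb hbe using hb
    rw [← Finset.sum_attach (Finset.univ.erase (1 : H))
      (fun h => (φ χ * δ) h * conj ((ξ : H → ℂ) h)),
      Finset.sum_congr rfl fun h _ => hbe h.1 h.2, ← Finset.mul_sum, Pi.mul_apply, hδ.one, mul_one,
      hd', Complex.conj_natCast] at h0
    obtain ⟨a, ha, hae⟩ := char_sub_one_dvd hζ (IsIrr.isCharacter χ.2) (hVexp v hv)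
    have h3 : φ χ 1 = (χ : X → ℂ) v := by simp [φ]
    rw [hd] at hae
    rw [h3] at h0
    refine (hp.out.not_dvd_mul hpd hpd') (dvd_of_one_sub_dvd hζ
      ⟨a * d' - ∑ h ∈ (Finset.univ.erase (1 : H)).attach, b h.1 h.2,
        (ha.mul isIntegral_algebraMap).sub (IsIntegral.sum _ fun h _ => hb _ _), ?_⟩)
    push_cast
    linear_combination (norm := (simp; ring)) (d' : ℂ) * hae + h0
  -- centralisers
  have hC : ∀ (g : H) (k : ℕ), k.Coprime p →
      Nat.card (centralizer ({v ^ k * (g : X)} : Set X)) =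
        fixCard ρ g * Nat.card {a : H // Commute a g} := by
    intro g k hkp
    set z := v ^ k * (g : X) with hz
    rw [fixCard, ← Nat.card_prod]
    have hzp : z ^ p = (g : X) ^ p := by
      rw [hz, ((hvH g).pow_left _).mul_pow, ← pow_mul, mul_comm, pow_mul, hVexp v hv, one_pow,
        one_mul]
    obtain ⟨m, hm⟩ := exists_pow_eq_self_of_coprime (x := (g : X)) (n := p)
      (hp.out.coprime_iff_not_dvd.2 fun hd => hpH (hd.trans (by
        rw [Subgroup.orderOf_coe]; exact orderOf_dvd_natCard g)))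
    obtain ⟨m', hm'⟩ := exists_pow_eq_self_of_coprime (x := v) (n := k)
      (hkp.coprime_dvd_right (orderOf_dvd_of_pow_eq_one (hVexp v hv)))
    have hcomm : ∀ x : X, Commute x z → Commute x (g : X) ∧ Commute x v := by
      intro x hx
      have h1 : Commute x (g : X) := by
        have h2 : Commute x ((g : X) ^ p) := hzp ▸ hx.pow_right p
        exact hm ▸ h2.pow_right m
      refine ⟨h1, ?_⟩
      have h3 : Commute x (v ^ k) := by
        have := hx.mul_right h1.inv_right
        rwa [hz, mul_inv_cancel_right] at this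
      exact hm' ▸ h3.pow_right m'
    refine (Nat.card_eq_of_bijective (fun q => ⟨val q.1.1 * ((q.2.1 : H) : X), ?mem⟩)
      ⟨fun q r e => ?inj, fun x => ?surj⟩).symm
    case mem =>
      rw [mem_centralizer_singleton_iff]
      have c1 : Commute (val q.1.1) (g : X) := by
        have h2 := hρ g q.1.1
        rw [q.1.2] at h2
        exact (mul_inv_eq_iff_eq_mul.1 h2.symm).symm
      have c2 : Commute (val q.1.1) v := hVc _ (Additive.toMul q.1.1).2 _ hv
      have c3 : Commute ((q.2.1 : H) : X) (g : X) := q.2.2.map H.subtype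
      have c4 : Commute ((q.2.1 : H) : X) v := (hvH q.2.1).symm
      exact ((c2.pow_right _).mul_right c1).mul_left ((c4.pow_right _).mul_right c3)
    case inj =>
      have e' : val q.1.1 * ((q.2.1 : H) : X) = val r.1.1 * ((r.2.1 : H) : X) :=
        congrArg Subtype.val e
      have := hGV.1 (a₁ := (⟨val q.1.1, (Additive.toMul q.1.1).2⟩, ⟨_, q.2.1.2.1⟩))
        (a₂ := (⟨val r.1.1, (Additive.toMul r.1.1).2⟩, ⟨_, r.2.1.2.1⟩)) e'
      simp only [Prod.mk.injEq, Subtype.mk.injEq] at this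
      exact Prod.ext (Subtype.ext (Additive.toMul.injective (Subtype.ext this.1)))
        (Subtype.ext (Subtype.ext this.2))
    case surj =>
      obtain ⟨x, hx⟩ := x
      obtain ⟨⟨⟨u, hu⟩, ⟨a, ha⟩⟩, rfl⟩ := hGV.2 x
      obtain ⟨c1, c2⟩ := hcomm _ (mem_centralizer_singleton_iff.1 hx)
      change Commute (u * a) _ at c1 c2
      have hav : Commute a v := by
        have c3 : Commute u v := hVc _ hu _ hv
        simpa using (c3.inv_left.mul_left c2)
      have haH : a ∈ H := ⟨ha, mem_centralizer_singleton_iff.2 hav⟩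
      -- compare the parts in `V` and in `G`
      have hau : a * (g : X) * a⁻¹ = g ∧ (g : X) * u * (g : X)⁻¹ = u := by
        have hnorm : (g : X) * u * (g : X)⁻¹ ∈ V := ‹V.Normal›.conj_mem u hu _
        have hgG : (g : X) * a * (g : X)⁻¹ ∈ G := G.mul_mem (G.mul_mem g.2.1 ha) (G.inv_mem g.2.1)
        have e2 : ((g : X) * u * (g : X)⁻¹) * ((g : X) * a * (g : X)⁻¹) = u * a := by
          have := c1.symm.eq
          rw [← mul_inv_eq_iff_eq_mul.2 this]
          group
        have := hGV.1 (a₁ := (⟨_, hnorm⟩, ⟨_, hgG⟩)) (a₂ := (⟨u, hu⟩, ⟨a, ha⟩)) e2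
        simp only [Prod.mk.injEq, Subtype.mk.injEq] at this
        refine ⟨?_, this.1⟩
        rw [mul_inv_eq_iff_eq_mul]
        exact (mul_inv_eq_iff_eq_mul.1 this.2).symm
      have hga : Commute a (g : X) := mul_inv_eq_iff_eq_mul.1 hau.1
      exact ⟨(⟨Additive.ofMul ⟨u, hu⟩, Additive.toMul.injective (Subtype.ext
        ((hρ g (Additive.ofMul ⟨u, hu⟩)).trans hau.2))⟩,
        ⟨⟨a, haH⟩, Subtype.ext hga.eq⟩), rfl⟩
  -- one Galois conjugate
  have hweight : ∀ k h, ‖s k (δ h)‖ ^ 2 * (c h : ℝ) = N := by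
    intro k h
    have h1 := congrArg (s k) (hδ.norm h)
    rw [map_mul, map_mul, map_conj_cycField (s k) (hδ.field h), map_natCast, map_natCast,
      Complex.mul_conj'] at h1
    exact_mod_cast h1
  have hcolk : ∀ k : (ZMod L)ˣ, ∀ h : H,
      ∑ χ : IrrCharacter X, ‖s k ((φ χ * δ) h)‖ ^ 2 ≤
        (Nat.card V : ℝ) * Nat.card {a : H // Commute a (h ^ (k : ZMod L).val)} := by
    intro k h
    set n := (k : ZMod L).val with hn
    have hnp : n.Coprime p := (hk k).coprime_dvd_right (dvd_mul_right _ _)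
    have hnH : n.Coprime (Nat.card H) := (hk k).coprime_dvd_right (dvd_mul_left _ _)
    have h1 : ∀ χ : IrrCharacter X, s k (φ χ h) = (χ : X → ℂ) (v ^ n * ((h ^ n : H) : X)) := by
      intro χ
      rw [hφ]
      show s k ((χ : X → ℂ) (v * h)) = _
      rw [galois_apply_pow (s k) (hs k) (IsIrr.isCharacter χ.2) (hvhL h), (hvH h).mul_pow,
        SubmonoidClass.coe_pow]
    simp only [Pi.mul_apply, map_mul, norm_mul, mul_pow, h1, ← Finset.sum_mul]
    have h2 := second_orthogonality (v ^ n * ((h ^ n : H) : X)) (v ^ n * ((h ^ n : H) : X))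
    rw [if_pos (IsConj.refl _), hC (h ^ n) n hnp] at h2
    simp only [Complex.mul_conj'] at h2
    have h3 : ∑ χ : IrrCharacter X, ‖(χ : X → ℂ) (v ^ n * ((h ^ n : H) : X))‖ ^ 2 =
        ((fixCard ρ (h ^ n) * Nat.card {a : H // Commute a (h ^ n)} : ℕ) : ℝ) := by
      apply Complex.ofReal_injective
      simp only [Complex.ofReal_sum, Complex.ofReal_pow, Complex.ofReal_natCast]
      exact h2
    rw [h3]
    have hc0 : (0 : ℝ) < c h := Nat.cast_pos.2 (fixCard_pos ρU h)
    have h4 : (fixCard ρ (h ^ n) : ℝ) * ‖s k (δ h)‖ ^ 2 ≤ Nat.card V := by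
      refine le_of_mul_le_mul_right ?_ hc0
      rw [mul_assoc, hweight, fixCard_pow ρ h hnH]
      have h5 := card_mul_fix_le ρ Us ρU (fun _ _ => rfl) h
      rw [Nat.card_congr (Additive.toMul (α := V)), mul_comm] at h5
      exact_mod_cast h5
    calc ((fixCard ρ (h ^ n) * Nat.card {a : H // Commute a (h ^ n)} : ℕ) : ℝ) * ‖s k (δ h)‖ ^ 2
        = ((fixCard ρ (h ^ n) : ℝ) * ‖s k (δ h)‖ ^ 2) * Nat.card {a : H // Commute a (h ^ n)} := by
          push_cast; ring
      _ ≤ _ := mul_le_mul_of_nonneg_right h4 (Nat.cast_nonneg _)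
  -- the sums
  have hcount : ∑ g : H, Nat.card {a : H // Commute a g} =
      Nat.card (ConjClasses H) * Nat.card H := by
    rw [← card_comm_eq_card_conjClasses_mul_card, ← Nat.card_sigma]
    exact Nat.card_congr
      { toFun := fun x => ⟨(x.2.1, x.1), x.2.2⟩
        invFun := fun x => ⟨x.1.2, x.1.1, x.2⟩
        left_inv := fun x => rfl
        right_inv := fun x => rfl }
  have hrow : ∀ χ : IrrCharacter X,
      (Fintype.card (ZMod L)ˣ : ℝ) * (Nat.card (ConjClasses H) * Nat.card H) ≤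
        ∑ k, ∑ h, ‖s k ((φ χ * δ) h)‖ ^ 2 := fun χ =>
    row_bound (dvd_mul_left _ _) s hs ((hφi χ).mul hδ.coef)
      (fun h => mul_mem (hφf χ h) (hδ.field h)) (hne χ)
  have htot : ∑ χ : IrrCharacter X, ∑ k, ∑ h, ‖s k ((φ χ * δ) h)‖ ^ 2 ≤
      (Fintype.card (ZMod L)ˣ : ℝ) * ((Nat.card V : ℝ) *
        (Nat.card (ConjClasses H) * Nat.card H)) := by
    rw [Finset.sum_comm]
    refine (Finset.sum_le_card_nsmul Finset.univ _
      ((Nat.card V : ℝ) * (Nat.card (ConjClasses H) * Nat.card H)) fun k _ => ?_).trans (le_of_eq ?_)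
    · rw [Finset.sum_comm]
      refine (Finset.sum_le_sum fun h _ => hcolk k h).trans (le_of_eq ?_)
      rw [← Finset.mul_sum, (Nat.Coprime.pow_left_bijective (G := H) ((hk k).coprime_dvd_right
        (dvd_mul_left _ _)).symm).sum_comp (fun g => (Nat.card {a : H // Commute a g} : ℝ))]
      congr 1
      exact_mod_cast hcount
    · rw [Finset.card_univ, nsmul_eq_mul]
  have hle := (Finset.card_nsmul_le_sum Finset.univ _ _ fun χ _ => hrow χ).trans htot
  rw [nsmul_eq_mul, Finset.card_univ, ← Nat.card_eq_fintype_card, card_irrCharacter] at hle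
  have hpos : (0 : ℝ) < (Fintype.card (ZMod L)ˣ : ℝ) *
      (Nat.card (ConjClasses H) * Nat.card H) := by
    have h1 : 0 < Fintype.card (ZMod L)ˣ := Fintype.card_pos
    have h2 : 0 < Nat.card (ConjClasses H) := Nat.card_pos
    have h3 : 0 < Nat.card H := Nat.card_pos
    positivity
  have hfin : (Nat.card (ConjClasses X) : ℝ) ≤ Nat.card V := by
    refine le_of_mul_le_mul_right (hle.trans (le_of_eq ?_)) hpos
    ring
  exact_mod_cast hfin

end Cfsg.Agent.KGVReal
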